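import Cfsg.Agent.H674.Dl.OrthDeg
import Cfsg.Agent.H759.Dl.Small
import Cfsg.Agent.H755.Dl.Lin
import Cfsg.Agent.H362.Dl.SixtyFour
import Cfsg.Agent.H477.HC.Rk3Chars_m3
import Cfsg.Agent.Characters.CCBasic
import Cfsg.Agent.S0157
import Cfsg.Agent.Prune
set_option linter.all false

section
prune_inst 0x7fffedfcbbabffffffff7e3ffef9fffc13c3dfffe6dff943ffe8ebff8bdf931e0bc5fbaf0de070ff0ed7e21418b97853fbfffeffe36bdc7ffffd5ff45ffbee5ff7ffbd0c51d3b2641ffc6ffffbf0778e7f3fffffffffffffffffffffffffffaeffbfffffffff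

-- part: H674/Dl/OrthNum
section
prune_inst 0x1000401400000000004000000002281000000900000000140000040000800028000000000800002000000000000000000000000420000000a000000000000000000000040810000000000000080000000000000000000000000000000010000000000000
set_option linter.all false
open scoped Cfsg.Agent.FastGrp

-- part: H674/Dl/OrthSep
section
/-!
# The degrees of the Harish-Chandra characters of the orthogonal groups are different (helper674, S4769)

`cc q` : `4` if `q` is odd, `1` if `q` is even;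
`sep_odd`, `sep_plus`, `sep_minus` : if `e ∣ dg F j`, `e' ∣ dg F k`, `j ≠ k` and the parts prime to `p` of the quotients
divide `cc q`, then `e ≠ e'`.
-/

set_option autoImplicit false

open Cfsg

namespace Cfsg.Agent.H674.Dl

open Module Cfsg.Agent.H53.HC Cfsg.Agent.H477.HC Cfsg.Agent.H749.Two

universe u v w

/-- `4` or `1` -/
def cc (q : ℕ) : ℕ := if Odd q then 4 else 1

theorem cc_odd {q : ℕ} (h : Odd q) : cc q = 4 := if_pos h

theorem cc_even {q : ℕ} (h : ¬ Odd q) : cc q = 1 := if_neg h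

theorem cc_pos (q : ℕ) : 0 < cc q := by unfold cc; split <;> norm_num

section tops

theorem dvd_four {s : ℕ} (h : s ∣ 4) : s = 1 ∨ s = 2 ∨ s = 4 := by
  have h1 : s ≤ 4 := Nat.le_of_dvd (by norm_num) h
  interval_cases s
  · exact absurd h (by decide)
  · exact Or.inl rfl
  · exact Or.inr (Or.inl rfl)
  · exact absurd h (by decide)
  · exact Or.inr (Or.inr rfl)

theorem exists_x {q m : ℕ} (hq : 2 ≤ q) (hm : 3 ≤ m) : ∃ x, q ^ (m - 1) = x + 1 ∧ q ^ m - 1 = q * x + (q - 1) ∧ q * q ≤ x + 1 := by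
  have h1 : q ^ 2 ≤ q ^ (m - 1) := Nat.pow_le_pow_right (by omega) (by omega)
  have h2 : 1 ≤ q ^ (m - 1) := Nat.one_le_pow _ _ (by omega)
  refine ⟨q ^ (m - 1) - 1, by omega, ?_, by rw [← sq]; omega⟩
  have h3 : q ^ m = q * q ^ (m - 1) := by rw [← pow_succ']; congr 1; omega
  obtain ⟨x, hx⟩ : ∃ x, q ^ (m - 1) = x + 1 := ⟨q ^ (m - 1) - 1, by omega⟩
  rw [h3, hx, Nat.add_sub_cancel, mul_add, mul_one]
  omega

theorem top_odd {q m s s' : ℕ} (hq : 3 ≤ q) (ho : Odd q) (hm : 3 ≤ m) (hs : s ∣ 4) (hs' : s' ∣ 4) :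
    s * (q ^ m - 1) ≠ (q ^ 2 - 1) * s' * (q ^ (m - 1) - 1) := by
  obtain ⟨x, hx, hx', hxq⟩ := exists_x (by omega : 2 ≤ q) hm
  rw [hx', hx, Nat.add_sub_cancel]
  intro h
  rcases Nat.lt_or_ge q 4 with h4 | h4
  · have h3 : q = 3 := by omega
    subst h3
    rcases dvd_four hs with rfl | rfl | rfl <;> rcases dvd_four hs' with rfl | rfl | rfl <;> (clear * - hxq h; omega)
  · have h5 : 5 ≤ q := by
      rcases Nat.lt_or_ge q 5 with h5 | h5
      · have : q = 4 := by omega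
        subst this
        exact absurd ho (by decide)
      · exact h5
    have h6 : s ≤ 4 := Nat.le_of_dvd (by norm_num) hs
    have h7 : 1 ≤ s' := Nat.pos_of_dvd_of_pos hs' (by norm_num)
    obtain ⟨y, rfl⟩ : ∃ y, q = y + 5 := ⟨q - 5, by omega⟩
    have e1 : (y + 5) ^ 2 - 1 = y * y + 10 * y + 24 := by
      have : (y + 5) ^ 2 = y * y + 10 * y + 25 := by ring
      omega
    have e2 : y + 5 - 1 = y + 4 := by omega
    rw [e1, e2] at h
    have h8 : s * ((y + 5) * x + (y + 4)) ≤ 4 * ((y + 5) * x + (y + 4)) := Nat.mul_le_mul_right _ h6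
    have h9 : (y * y + 10 * y + 24) * x ≤ (y * y + 10 * y + 24) * s' * x := by
      rw [mul_assoc]
      exact Nat.mul_le_mul_left _ (Nat.le_mul_of_pos_left _ h7)
    have h10 : 4 * ((y + 5) * x + (y + 4)) < (y * y + 10 * y + 24) * x := by nlinarith only [hxq]
    omega

theorem top_plus {q m s s' : ℕ} (hq : 3 ≤ q) (hm : 3 ≤ m) (hs : s ∣ 4) (hs' : s' ∣ 4) :
    s * (q ^ m - 1) ≠ (2 * (q - 1)) * s' * (q ^ (m - 1) - 1) := by
  obtain ⟨x, hx, hx', hxq⟩ := exists_x (by omega : 2 ≤ q) hm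
  rw [hx', hx, Nat.add_sub_cancel]
  intro h
  obtain ⟨y, rfl⟩ : ∃ y, q = y + 3 := ⟨q - 3, by omega⟩
  have e2 : y + 3 - 1 = y + 2 := by omega
  rw [e2] at h
  have h1 : (y + 3) * x + (y + 2) < (2 * (y + 2)) * x := by nlinarith only [hxq]
  have h2 : (2 * (y + 2)) * x < 2 * ((y + 3) * x + (y + 2)) := by linarith only []
  have h3 : ∀ a b : ℕ, b = 2 * (y + 2) * x → a = (y + 3) * x + (y + 2) → s * a = s' * b → False := by
    intro a b hb ha hab
    rw [← ha, ← hb] at h1 h2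
    rcases dvd_four hs with rfl | rfl | rfl <;> rcases dvd_four hs' with rfl | rfl | rfl <;> (clear * - h1 hab h2 hb; omega)
  refine h3 _ _ rfl rfl ?_
  rw [h]
  ring

theorem top_plus_even {q m : ℕ} (hq : 2 ≤ q) (hm : 3 ≤ m) : q ^ m - 1 ≠ (q - 1) * (q ^ (m - 1) - 1) := by
  obtain ⟨x, hx, hx', hxq⟩ := exists_x hq hm
  rw [hx', hx, Nat.add_sub_cancel]
  obtain ⟨y, rfl⟩ : ∃ y, q = y + 2 := ⟨q - 2, by omega⟩
  have e2 : y + 2 - 1 = y + 1 := by omega
  rw [e2]
  intro h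
  linarith only [h]

theorem top_plus_two {q m : ℕ} (hq : 2 ≤ q) (hm : 4 ≤ m) :
    q ^ m - 1 < (q - 1) * (((q ^ 1 + 1) * (q ^ (1 + 1) - 1)) * (q ^ (m - 2) - 1)) := by
  have h1 : q ^ 2 ≤ q ^ (m - 2) := Nat.pow_le_pow_right (by omega) (by omega)
  obtain ⟨x, hx⟩ : ∃ x, q ^ (m - 2) = x + 1 := ⟨q ^ (m - 2) - 1, by
    have := Nat.one_le_pow (m - 2) q (by omega); omega⟩
  have h3 : q ^ m = q ^ 2 * q ^ (m - 2) := by rw [← pow_add]; congr 1; omega
  rw [h3, hx, Nat.add_sub_cancel]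
  obtain ⟨y, rfl⟩ : ∃ y, q = y + 2 := ⟨q - 2, by omega⟩
  have e2 : y + 2 - 1 = y + 1 := by omega
  have e3 : (y + 2) ^ (1 + 1) - 1 = y * y + 4 * y + 3 := by
    have : (y + 2) ^ (1 + 1) = y * y + 4 * y + 4 := by ring
    omega
  have e4 : (y + 2) ^ 2 * (x + 1) - 1 = (y * y + 4 * y + 4) * x + (y * y + 4 * y + 3) := by
    have : (y + 2) ^ 2 * (x + 1) = (y * y + 4 * y + 4) * x + (y * y + 4 * y + 4) := by ring
    omega
  rw [e2, e3, e4, pow_one]
  rw [hx] at h1
  have h5 : 3 ≤ x := by linarith only [h1, _root_.mul_self_nonneg (↑y : ℤ), _root_.Nat.cast_nonneg (α := ℤ) (y)]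
  have h6 : (y + 2) ^ 2 = y * y + 4 * y + 4 := by ring
  rw [h6] at h1
  linarith only [h1, mul_nonneg (Nat.zero_le y) (Nat.zero_le x), Nat.zero_le (y * y * x), Nat.zero_le (y * y * y * x), Nat.zero_le (y * y * y * y * x), _root_.mul_self_nonneg (↑y : ℤ), _root_.Nat.cast_nonneg (α := ℤ) (y)]

end tops

section sep

variable (K : Type u) [Field K] [Finite K] (p : ℕ) [Fact p.Prime] [CharP K p]

theorem q_ge_three {q : ℕ} (hq : 2 ≤ q) (ho : Odd q) : 3 ≤ q := by
  rcases ho with ⟨j, hj⟩; omega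

omit [Fact p.Prime] in
/-- equal degrees give an equation -/
theorem eq_of_eq {e d d' : ℕ} (he : e ∣ d) (he' : e ∣ d') (hd : d ≠ 0) {D D' x y R : ℕ} (hD : pp p d = D)
    (hD' : pp p d' = D') (h : D' * x = R * D * y) : pp p (d' / e) * x = R * pp p (d / e) * y := by
  have h1 : D' = pp p e * pp p (d' / e) := by
    rw [← pp_mul, Nat.mul_div_cancel' he', hD']
  have h2 : D = pp p e * pp p (d / e) := by
    rw [← pp_mul, Nat.mul_div_cancel' he, hD]
  have h3 : 0 < pp p e := pp_pos (by rintro rfl; exact hd (Nat.eq_zero_of_zero_dvd he))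
  apply Nat.eq_of_mul_eq_mul_left h3
  rw [h1, h2] at h
  linear_combination h

omit [Fact p.Prime] [CharP K p] in
theorem pp_pos_dg_odd (h2 : (2 : K) ≠ 0) (ho : Odd (Nat.card K)) {k m : ℕ} (hk : 0 < k) (hm : k ≤ m) :
    0 < pp p (dg (CForm.oddF K m h2) k) := pp_pos (dg_odd_ne K h2 ho hk hm)

theorem sep_odd_lt (h2 : (2 : K) ≠ 0) (ho : Odd (Nat.card K)) {m j k : ℕ} (hm : 3 ≤ m) (hj : 1 ≤ j) (hjk : j < k)
    (hk : k ≤ m) {e e' : ℕ} (he : e ∣ dg (CForm.oddF K m h2) j) (he' : e' ∣ dg (CForm.oddF K m h2) k)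
    (hs : pp p (dg (CForm.oddF K m h2) j / e) ∣ 4) (hs' : pp p (dg (CForm.oddF K m h2) k / e') ∣ 4) : e ≠ e' := by
  have hq : 2 ≤ Nat.card K := Finite.one_lt_card
  have hq3 := q_ge_three hq ho
  have he'0 : 0 < e' := Nat.pos_of_ne_zero (by
    rintro rfl; exact dg_odd_ne K h2 ho (by omega) hk (Nat.eq_zero_of_zero_dvd he'))
  have hsle : pp p (dg (CForm.oddF K m h2) k / e') ≤ 4 := Nat.le_of_dvd (by norm_num) hs'
  have hsq : 1 * (Nat.card K + 1) < Nat.card K ^ 2 - 1 := by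
    obtain ⟨y, hy⟩ : ∃ y, Nat.card K = y + 3 := ⟨Nat.card K - 3, by omega⟩
    rw [hy]
    have : (y + 3) ^ 2 = y * y + 6 * y + 9 := by ring
    have h0 : 0 ≤ y * y := Nat.zero_le _
    omega
  have hfour : 4 * (Nat.card K + 1) < Nat.card K ^ 4 - 1 := by
    obtain ⟨y, hy⟩ : ∃ y, Nat.card K = y + 3 := ⟨Nat.card K - 3, by omega⟩
    rw [hy]
    have h0 : (y + 3) ^ 4 = y ^ 4 + 12 * y ^ 3 + 54 * y ^ 2 + 108 * y + 81 := by ring
    have h1 : 0 ≤ y ^ 4 := Nat.zero_le _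
    (clear * - h0; omega)
  have hstep : ∀ i, 1 < i → i ≤ m - 1 → 4 * pp p (dg (CForm.oddF K m h2) (i - 1)) < pp p (dg (CForm.oddF K m h2) i) := by
    intro i hi hi'
    refine grow hq hi (rec_odd K p h2 ho hi (show i + (m - i) = m by omega))
      (pp_pos_dg_odd K p h2 ho (by omega) (by omega)) (lt_of_lt_of_le hfour ?_)
    exact Nat.sub_le_sub_right (Nat.pow_le_pow_right (by omega) (by omega)) 1
  have htop : 1 * pp p (dg (CForm.oddF K m h2) (m - 1)) < pp p (dg (CForm.oddF K m h2) m) :=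
    grow hq (by omega) (rec_odd K p h2 ho (by omega) (Nat.add_zero m))
      (pp_pos_dg_odd K p h2 ho (by omega) (by omega)) hsq
  have hch := chain (D := fun i => pp p (dg (CForm.oddF K m h2) i)) (c := 4) (by norm_num) hstep
  rcases Nat.lt_or_ge k m with h3 | h3
  · exact sep_of_lt he he' he'0 (dg_odd_ne K h2 ho hj (by omega)) hsle (hch k j hj hjk (by omega))
  · have h4 : k = m := by omega
    subst h4
    rcases Nat.lt_or_ge j (k - 1) with h5 | h5
    · refine sep_of_lt he he' he'0 (dg_odd_ne K h2 ho hj (by omega)) hsle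
        ((hch (k - 1) j hj h5 le_rfl).trans ?_)
      rwa [one_mul] at htop
    · have h6 : j = k - 1 := by omega
      subst h6
      rintro rfl
      refine top_odd (q := Nat.card K) (m := k) hq3 ho hm hs' hs ?_
      exact eq_of_eq p he he' (dg_odd_ne K h2 ho (by omega) (by omega)) rfl rfl
        (rec_odd K p h2 ho (by omega) (Nat.add_zero k))

theorem sep_odd (h2 : (2 : K) ≠ 0) (ho : Odd (Nat.card K)) {m j k : ℕ} (hm : 3 ≤ m) (hj : 1 ≤ j) (hk : 1 ≤ k)
    (hjm : j ≤ m) (hkm : k ≤ m) (hjk : j ≠ k)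
    {e e' : ℕ} (he : e ∣ dg (CForm.oddF K m h2) j) (he' : e' ∣ dg (CForm.oddF K m h2) k)
    (hs : pp p (dg (CForm.oddF K m h2) j / e) ∣ 4) (hs' : pp p (dg (CForm.oddF K m h2) k / e') ∣ 4) : e ≠ e' := by
  rcases Nat.lt_or_gt_of_ne hjk with h | h
  · exact sep_odd_lt K p h2 ho hm hj h hkm he he' hs hs'
  · exact (sep_odd_lt K p h2 ho hm hk h hjm he' he hs' hs).symm

omit [Fact p.Prime] [CharP K p] in
theorem pp_pos_dg_plus {k m : ℕ} (hk : 0 < k) (hm : k ≤ m) : 0 < pp p (dg (CForm.plusF K m) k) :=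
  pp_pos (dg_plus_ne K hk hm)

omit [Fact p.Prime] in
theorem p_even [hp : Fact p.Prime] (ho : ¬ Odd (Nat.card K)) : p = 2 := by
  by_contra h
  exact ho (odd_of_two_ne (K := K) (p := p) h)

theorem pp_two_odd (ho : Odd (Nat.card K)) : pp p 2 = 2 := by
  refine pp_self fun h => ?_
  exact char_ne_two_of_odd (K := K) (p := p) ho ((Nat.prime_dvd_prime_iff_eq Fact.out Nat.prime_two).1 h)

theorem sep_plus_lt {m j k : ℕ} (hm : 4 ≤ m) (hj : 1 ≤ j) (hjk : j < k)
    (hk : k ≤ m) {e e' : ℕ} (he : e ∣ dg (CForm.plusF K m) j) (he' : e' ∣ dg (CForm.plusF K m) k)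
    (hs : pp p (dg (CForm.plusF K m) j / e) ∣ cc (Nat.card K)) (hs' : pp p (dg (CForm.plusF K m) k / e') ∣ cc (Nat.card K)) :
    e ≠ e' := by
  have hq : 2 ≤ Nat.card K := Finite.one_lt_card
  have he'0 : 0 < e' := Nat.pos_of_ne_zero (by
    rintro rfl; exact dg_plus_ne K (by omega) hk (Nat.eq_zero_of_zero_dvd he'))
  have hsle : pp p (dg (CForm.plusF K m) k / e') ≤ cc (Nat.card K) := Nat.le_of_dvd (cc_pos _) hs'
  have hfour : cc (Nat.card K) * (Nat.card K + 1) < (Nat.card K + 1) * (Nat.card K ^ 2 - 1) := by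
    by_cases ho : Odd (Nat.card K)
    · rw [cc_odd ho]
      obtain ⟨y, hy⟩ : ∃ y, Nat.card K = y + 3 := ⟨Nat.card K - 3, by have := q_ge_three hq ho; omega⟩
      rw [hy, mul_comm 4]
      refine Nat.mul_lt_mul_of_pos_left ?_ (by omega)
      have : (y + 3) ^ 2 = y * y + 6 * y + 9 := by ring
      have h0 : 0 ≤ y * y := Nat.zero_le _
      omega
    · rw [cc_even ho]
      obtain ⟨y, hy⟩ : ∃ y, Nat.card K = y + 2 := ⟨Nat.card K - 2, by omega⟩
      rw [hy, mul_comm 1]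
      refine Nat.mul_lt_mul_of_pos_left ?_ (by omega)
      have : (y + 2) ^ 2 = y * y + 4 * y + 4 := by ring
      have h0 : 0 ≤ y * y := Nat.zero_le _
      omega
  have hstep : ∀ i, 1 < i → i ≤ m - 1 →
      cc (Nat.card K) * pp p (dg (CForm.plusF K m) (i - 1)) < pp p (dg (CForm.plusF K m) i) := by
    intro i hi hi'
    refine grow hq hi (rec_plus K p hi (show 0 < m - i by omega) (show i + (m - i) = m by omega))
      (pp_pos_dg_plus K p (by omega) (by omega)) (lt_of_lt_of_le hfour (Nat.mul_le_mul ?_ ?_))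
    · refine Nat.add_le_add_right ?_ 1
      calc Nat.card K = Nat.card K ^ 1 := (pow_one _).symm
        _ ≤ _ := Nat.pow_le_pow_right (by omega) (by omega)
    · exact Nat.sub_le_sub_right (Nat.pow_le_pow_right (by omega) (by omega)) 1
  have hch := chain (D := fun i => pp p (dg (CForm.plusF K m) i)) (cc_pos (Nat.card K)) hstep
  have hrt := rec_plus_top K p (m := m) (by omega)
  rcases Nat.lt_or_ge k m with h3 | h3
  · exact sep_of_lt he he' he'0 (dg_plus_ne K hj (by omega)) hsle (hch k j hj hjk (by omega))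
  · have h4 : k = m := by omega
    subst h4
    by_cases ho : Odd (Nat.card K)
    · have hq3 := q_ge_three hq ho
      rw [pp_two_odd K p ho] at hrt
      rw [cc_odd ho] at hs hs' hch hsle
      rcases Nat.lt_or_ge j (k - 1) with h5 | h5
      · have htop : 1 * pp p (dg (CForm.plusF K k) (k - 1)) < pp p (dg (CForm.plusF K k) k) :=
          grow' hq (by omega) hrt (pp_pos_dg_plus K p (by omega) (by omega)) (by omega) (by norm_num)
        refine sep_of_lt he he' he'0 (dg_plus_ne K hj (by omega)) hsle ((hch (k - 1) j hj h5 le_rfl).trans ?_)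
        rwa [one_mul] at htop
      · have h6 : j = k - 1 := by omega
        subst h6
        rintro rfl
        refine top_plus (q := Nat.card K) (m := k) hq3 (by omega) hs' hs ?_
        exact eq_of_eq p he he' (dg_plus_ne K (by omega) (by omega)) rfl rfl hrt
    · have hp2 := p_even K p ho
      rw [cc_even ho] at hs hs' hch hsle
      have hp22 : pp p 2 = 1 := by
        subst hp2
        have := pp_pow Nat.prime_two 1
        rwa [pow_one] at this
      rw [hp22, one_mul] at hrt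
      rcases Nat.lt_or_ge j (k - 1) with h5 | h5
      · have h6 : pp p (dg (CForm.plusF K k) j) ≤ pp p (dg (CForm.plusF K k) (k - 2)) := by
          rcases Nat.lt_or_ge j (k - 2) with h7 | h7
          · have := hch (k - 2) j hj h7 (by omega)
            omega
          · have : j = k - 2 := by omega
            rw [this]
        have h7 : pp p (dg (CForm.plusF K k) (k - 2)) < pp p (dg (CForm.plusF K k) k) := by
          have h8 := rec_plus K p (k := k - 1) (n := 1) (m := k) (by omega) (by omega) (by omega)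
          have e1 : k - 1 - 1 = k - 2 := by omega
          rw [e1] at h8
          have h9 := top_plus_two hq hm
          have h10 : pp p (dg (CForm.plusF K k) k) * (Nat.card K ^ k - 1) =
              pp p (dg (CForm.plusF K k) (k - 2)) * ((Nat.card K - 1) *
                (((Nat.card K ^ 1 + 1) * (Nat.card K ^ (1 + 1) - 1)) * (Nat.card K ^ (k - 2) - 1))) := by
            rw [hrt]
            linear_combination (Nat.card K - 1) * h8
          have h11 := pp_pos_dg_plus K p (k := k - 2) (m := k) (by omega) (by omega)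
          by_contra hcon
          rw [not_lt] at hcon
          have h12 := Nat.mul_lt_mul_of_pos_left h9 h11
          rw [← h10] at h12
          exact absurd h12 (not_lt.2 (Nat.mul_le_mul_right _ hcon))
        exact sep_of_lt he he' he'0 (dg_plus_ne K hj (by omega)) hsle (by omega)
      · have h6 : j = k - 1 := by omega
        subst h6
        rintro rfl
        have h7 := eq_of_eq p he he' (dg_plus_ne K (by omega) (by omega)) rfl rfl hrt
        rw [Nat.dvd_one.1 hs, Nat.dvd_one.1 hs', one_mul, mul_one] at h7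
        exact top_plus_even hq (by omega) h7

theorem sep_plus {m j k : ℕ} (hm : 4 ≤ m) (hj : 1 ≤ j) (hk : 1 ≤ k) (hjm : j ≤ m) (hkm : k ≤ m) (hjk : j ≠ k)
    {e e' : ℕ} (he : e ∣ dg (CForm.plusF K m) j) (he' : e' ∣ dg (CForm.plusF K m) k)
    (hs : pp p (dg (CForm.plusF K m) j / e) ∣ cc (Nat.card K)) (hs' : pp p (dg (CForm.plusF K m) k / e') ∣ cc (Nat.card K)) :
    e ≠ e' := by
  rcases Nat.lt_or_gt_of_ne hjk with h | h
  · exact sep_plus_lt K p hm hj h hkm he he' hs hs'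
  · exact (sep_plus_lt K p hm hk h hjm he' he hs' hs).symm

section minus

variable {a b : K} (hab : ∀ z₁ z₂ : K, z₁ ^ 2 + a * z₁ * z₂ + b * z₂ ^ 2 = 0 → z₁ = 0 ∧ z₂ = 0)

include p in
theorem grow_minus {m : ℕ} : ∀ i, 1 < i → i ≤ m →
      cc (Nat.card K) * pp p (dg (CForm.minusF K m a b hab) (i - 1)) < pp p (dg (CForm.minusF K m a b hab) i) := by
  have hq : 2 ≤ Nat.card K := Finite.one_lt_card
  have hfour : cc (Nat.card K) * (Nat.card K + 1) < (Nat.card K - 1) * (Nat.card K ^ 2 + 1) := by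
    by_cases ho : Odd (Nat.card K)
    · rw [cc_odd ho]
      obtain ⟨y, hy⟩ : ∃ y, Nat.card K = y + 3 := ⟨Nat.card K - 3, by have := q_ge_three hq ho; omega⟩
      rw [hy]
      have e1 : y + 3 - 1 = y + 2 := by omega
      rw [e1]
      linarith only [Nat.zero_le (y * y * y), _root_.mul_self_nonneg (↑y : ℤ), _root_.Nat.cast_nonneg (α := ℤ) (y)]
    · rw [cc_even ho]
      obtain ⟨y, hy⟩ : ∃ y, Nat.card K = y + 2 := ⟨Nat.card K - 2, by omega⟩
      rw [hy]
      have e1 : y + 2 - 1 = y + 1 := by omega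
      rw [e1]
      linarith only [Nat.zero_le (y * y * y), _root_.mul_self_nonneg (↑y : ℤ), _root_.Nat.cast_nonneg (α := ℤ) (y)]
  intro i hi hi'
  refine grow hq hi (rec_minus K p hab hi (show i + (m - i) = m by omega))
    (pp_pos (dg_minus_ne K hab (by omega) (by omega))) (lt_of_lt_of_le hfour (Nat.mul_le_mul ?_ ?_))
  · refine Nat.sub_le_sub_right ?_ 1
    calc Nat.card K = Nat.card K ^ 1 := (pow_one _).symm
      _ ≤ _ := Nat.pow_le_pow_right (by omega) (by omega)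
  · exact Nat.add_le_add_right (Nat.pow_le_pow_right (by omega) (by omega)) 1

theorem sep_minus_lt {m j k : ℕ} (hj : 1 ≤ j) (hjk : j < k)
    (hk : k ≤ m) {e e' : ℕ} (he : e ∣ dg (CForm.minusF K m a b hab) j) (he' : e' ∣ dg (CForm.minusF K m a b hab) k)
    (hs' : pp p (dg (CForm.minusF K m a b hab) k / e') ∣ cc (Nat.card K)) :
    e ≠ e' := by
  have he'0 : 0 < e' := Nat.pos_of_ne_zero (by
    rintro rfl; exact dg_minus_ne K hab (by omega) hk (Nat.eq_zero_of_zero_dvd he'))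
  exact sep_of_lt he he' he'0 (dg_minus_ne K hab hj (by omega)) (Nat.le_of_dvd (cc_pos _) hs')
    (chain (D := fun i => pp p (dg (CForm.minusF K m a b hab) i)) (cc_pos (Nat.card K)) (grow_minus K p hab) k j hj hjk hk)

theorem sep_minus {m j k : ℕ} (hj : 1 ≤ j) (hk : 1 ≤ k) (hjm : j ≤ m) (hkm : k ≤ m) (hjk : j ≠ k)
    {e e' : ℕ} (he : e ∣ dg (CForm.minusF K m a b hab) j) (he' : e' ∣ dg (CForm.minusF K m a b hab) k)
    (hs : pp p (dg (CForm.minusF K m a b hab) j / e) ∣ cc (Nat.card K))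
    (hs' : pp p (dg (CForm.minusF K m a b hab) k / e') ∣ cc (Nat.card K)) : e ≠ e' := by
  rcases Nat.lt_or_gt_of_ne hjk with h | h
  · exact sep_minus_lt K p hab hj h hkm he he' hs'
  · exact (sep_minus_lt K p hab hk h hjm he' he hs).symm

end minus

end sep

end Cfsg.Agent.H674.Dl
end

-- part: H674/Dl/OrthCh
section
/-!
# The degrees of the simple orthogonal groups below `dg F k` (helper674, S4769)

`Dn S p q d e` : `S` has an irreducible character of degree `e`, `e ∣ d`, `d / e ∣ 4`, the part of `d / e` prime to `p`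
divides `cc q`;
`odd_dn`, `plus_dn`, `minus_dn` : existence for `d = dg F k`;
`many_of_dn` : `Many`.
-/

set_option autoImplicit false

open Cfsg

namespace Cfsg.Agent.H674.Dl

open Module Cfsg.Agent.H53.HC Cfsg.Agent.H477.HC Cfsg.Agent.H749.Two Cfsg.Agent.H246.Dl

universe u v w

/-- a degree of `S` below `d` -/
def Dn (S : Type*) [Group S] (p q d e : ℕ) : Prop := Ch S e ∧ e ∣ d ∧ pp p (d / e) ∣ cc q ∧ d / e ∣ 4

section general

variable {S : Type*} [Group S] {p q r : ℕ}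

/-- divisibility passes to the constituent, `r` odd -/
theorem Dn.dvd_odd {d e : ℕ} (h : Dn S p q d e) (hr : r.Prime) (hr2 : r ≠ 2) (hd : r ∣ d) : r ∣ e := by
  obtain ⟨-, ⟨t, rfl⟩, -, h4⟩ := h
  rcases Nat.eq_zero_or_pos e with rfl | he
  · exact dvd_zero _
  rw [Nat.mul_div_cancel_left _ he] at h4
  rcases hr.dvd_mul.1 hd with h | h
  · exact h
  · exact absurd ((Nat.prime_dvd_prime_iff_eq hr Nat.prime_two).1 (hr.dvd_of_dvd_pow
      ((h.trans h4).trans (by norm_num : 4 ∣ 2 ^ 2)))) hr2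

/-- divisibility passes to the constituent, `r = 2` -/
theorem Dn.dvd_two {d e : ℕ} (h : Dn S p q d e) (hd : 8 ∣ d) : 2 ∣ e := by
  obtain ⟨-, ⟨t, rfl⟩, -, h4⟩ := h
  rcases Nat.eq_zero_or_pos e with rfl | he
  · exact dvd_zero _
  rw [Nat.mul_div_cancel_left _ he] at h4
  rcases dvd_four h4 with rfl | rfl | rfl
  · exact (by norm_num : 2 ∣ 8).trans (by rwa [mul_one] at hd)
  · exact (by norm_num : 2 ∣ 4).trans (Nat.dvd_of_mul_dvd_mul_right (by norm_num : 0 < 2) (by simpa using hd))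
  · exact Nat.dvd_of_mul_dvd_mul_right (by norm_num : 0 < 4) (by simpa using hd)

/-- **many characters** -/
theorem many_of_dn {d : ℕ → ℕ} (T X : Finset ℕ) (hr : r.Prime)
    (hT : ∀ k ∈ T, ∃ e, Dn S p q (d k) e)
    (hsep : ∀ j ∈ T, ∀ k ∈ T, j ≠ k → ∀ e e', Dn S p q (d j) e → Dn S p q (d k) e' → e ≠ e')
    (hdiv : ∀ k ∈ T, (r ≠ 2 ∧ r ∣ d k) ∨ (r = 2 ∧ 8 ∣ d k))
    (hX : ∀ x ∈ X, Ch S x ∧ r ∣ x) (hXT : ∀ x ∈ X, ∀ k ∈ T, ∀ e, Dn S p q (d k) e → x ≠ e) :
    Many r S (T.card + X.card) := by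
  classical
  choose! e he using hT
  have hinj : Set.InjOn e T := by
    intro j hj k hk h
    by_contra hne
    exact hsep j hj k hk hne _ _ (he j hj) (he k hk) h
  have hdisj : Disjoint (T.image e) X := by
    rw [Finset.disjoint_left]
    intro x hx hx'
    obtain ⟨k, hk, rfl⟩ := Finset.mem_image.1 hx
    exact hXT _ hx' k hk _ (he k hk) rfl
  have h1 : (T.image e ∪ X).card = T.card + X.card := by
    rw [Finset.card_union_of_disjoint hdisj, Finset.card_image_of_injOn hinj]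
  rw [← h1]
  refine Many.of_finset fun x hx => ?_
  rcases Finset.mem_union.1 hx with h | h
  · obtain ⟨k, hk, rfl⟩ := Finset.mem_image.1 h
    refine ⟨?_, (he k hk).1⟩
    rcases hdiv k hk with ⟨h2, h3⟩ | ⟨rfl, h3⟩
    · exact (he k hk).dvd_odd hr h2 h3
    · exact (he k hk).dvd_two h3
  · exact ⟨(hX x h).2, (hX x h).1⟩

theorem many_of_dn' {d : ℕ → ℕ} (T : Finset ℕ) (hr : r.Prime)
    (hT : ∀ k ∈ T, ∃ e, Dn S p q (d k) e)
    (hsep : ∀ j ∈ T, ∀ k ∈ T, j ≠ k → ∀ e e', Dn S p q (d j) e → Dn S p q (d k) e' → e ≠ e')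
    (hdiv : ∀ k ∈ T, (r ≠ 2 ∧ r ∣ d k) ∨ (r = 2 ∧ 8 ∣ d k)) :
    Many r S T.card :=
  many_of_dn T ∅ hr hT hsep hdiv (by simp) (by simp)

/-- a small degree is different -/
theorem Dn.ne_of_small {d e x : ℕ} (h : Dn S p q d e) (hx : x ≠ 0) (hd : d ≠ 0) (hlt : 4 * pp p x < pp p d) : x ≠ e := by
  obtain ⟨-, h1, -, h3⟩ := h
  have he : 0 < e := Nat.pos_of_ne_zero (by rintro rfl; exact hd (Nat.eq_zero_of_zero_dvd h1))
  exact sep_of_lt (dvd_refl x) h1 he hx ((pp_le _).trans (Nat.le_of_dvd (by norm_num) h3)) hlt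

end general

section omega

variable {ι : Type} [Fintype ι] [DecidableEq ι] {K : Type u} [Field K] [Finite K] (F : CForm K (ι → K))
  (p : ℕ) [Fact p.Prime] [CharP K p]

include F in
/-- a character of the isometry group, trivial on the centre of `Ω`, gives a degree of `PΩ` -/
theorem dn_of_iso (hB : ∀ u v, F.B u v = F.Q (u + v) - F.Q u - F.Q v) {χ : F.iso → ℂ} (hχ : IsIrrCharacter F.iso χ)
    {d : ℕ} (hd : χ 1 = d)
    (hcen : ∀ z : Omega K F.Q, z ∈ Subgroup.center (Omega K F.Q) → ∀ z' : F.iso,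
      (∀ v, (z' : (ι → K) ≃ₗ[K] (ι → K)) v = (omMat z).mulVec v) → χ z' = χ 1)
    (hidx : (Omega K F.Q).index ∣ 4) (hidx' : ¬ Odd (Nat.card K) → (Omega K F.Q).index ∣ 2) :
    ∃ e, Dn (POmega K F.Q) p (Nat.card K) d e := by
  have hχ' := Characters.Core.isIrr_comp (isoQuad F hB).toMonoidHom (isoQuad F hB).surjective hχ
  obtain ⟨e, h1, h2, h3, h4⟩ := ch_down (Omega K F.Q) hχ' (d := d)
    (by rw [Function.comp_apply, map_one, hd]) (fun z hz => by
      rw [Function.comp_apply, Function.comp_apply, map_one]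
      exact hcen z hz _ fun v => rfl)
  refine ⟨e, h1, h2, ?_, h3.trans hidx⟩
  by_cases ho : Odd (Nat.card K)
  · rw [cc_odd ho]
    exact (pp_dvd _).trans (h3.trans hidx)
  · rw [cc_even ho]
    have hp2 := p_even K p ho
    subst hp2
    have h5 : pp 2 (d / e) ∣ pp 2 (2 ^ 1) := pp_dvd_pp (by rw [pow_one]; exact h3.trans (hidx' ho))
    rwa [pp_pow Nat.prime_two] at h5

include F in
theorem dn_of_cus (hB : ∀ u v, F.B u v = F.Q (u + v) - F.Q u - F.Q v) {k : ℕ} {W₀ : Submodule K (ι → K)}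
    (hW₀ : W₀ ∈ F.Om k) {Z : Kˣ → Prop} {c : GL (Fin k) K → ℂ} (hc : Cus K k F.σ Z c)
    (hcen : ∀ z : Omega K F.Q, z ∈ Subgroup.center (Omega K F.Q) → ∃ a : Kˣ, Z a ∧ ∀ v, (omMat z).mulVec v = (a : K) • v)
    (hidx : (Omega K F.Q).index ∣ 4) (hidx' : ¬ Odd (Nat.card K) → (Omega K F.Q).index ∣ 2) :
    ∃ e, Dn (POmega K F.Q) p (Nat.card K) (dg F k) e := by
  obtain ⟨χ, hχ, hχ1, hχz⟩ := exists_char F hW₀ hc
  refine dn_of_iso F p hB hχ hχ1 (fun z hz z' hz' => ?_) hidx hidx'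
  obtain ⟨a, ha, h⟩ := hcen z hz
  exact hχz z' a ha fun v => (hz' v).trans (h v)

end omega

/-! ### the index -/

section idx

variable (K : Type u) [Field K] [Finite K] {p : ℕ} [Fact p.Prime] [CharP K p]

theorem even_pow {q : ℕ} (h : ¬ Odd q) {n : ℕ} (hn : n ≠ 0) : ¬ Odd (q ^ n) := by
  rw [Nat.odd_pow_iff hn]
  exact h

omit [Finite K] in
theorem gcd_four_of_odd {n : ℕ} (h : Odd n) : Nat.gcd 4 n = 1 := by
  have : Nat.Coprime (2 ^ 2) n := Nat.Coprime.pow_left 2 (Nat.coprime_two_left.2 h)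
  simpa using this

include p in
theorem idx_odd (ho : Odd (Nat.card K)) {m : ℕ} (hm : 3 ≤ m) :
    (Omega K (quadFormOdd m K)).index ∣ 4 ∧ (¬ Odd (Nat.card K) → (Omega K (quadFormOdd m K)).index ∣ 2) := by
  obtain ⟨h1, -⟩ := odd_idx K (p := p) ho hm
  exact ⟨by rw [h1], fun h => absurd ho h⟩

theorem plus_idx_mul {m : ℕ} (hm : 4 ≤ m) :
    (Omega K (quadFormPlus m K)).index * Nat.card (Subgroup.center (Omega K (quadFormPlus m K))) =
      2 * Nat.gcd 4 (Nat.card K ^ m - 1) := by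
  let _ := Fintype.ofFinite K
  refine idx_eq (quadFormPlus m K) (g := Nat.gcd 4 (Nat.card K ^ m - 1))
    (X := Nat.card K ^ (m * (m - 1)) * (Nat.card K ^ m - 1) *
      ∏ i ∈ Finset.range (m - 1), (Nat.card K ^ (2 * (i + 1)) - 1)) ?_ ?_
  · rw [Nat.card_eq_fintype_card (α := K)]
    rw [Cfsg.Agent.S0287.result rfl m (by omega)]
    ring
  · rw [Nat.card_eq_fintype_card (α := K)]
    exact Cfsg.Agent.S0293.result rfl m hm

theorem plus_idx_four {p : ℕ} [Fact p.Prime] [CharP K p] (ho : Odd (Nat.card K)) {m : ℕ} (hm : 4 ≤ m) :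
    (Omega K (quadFormPlus m K)).index = 4 := by
  have h2 := two_ne_zero_of_odd (K := K) (p := p) ho
  rw [← LieClassical.OrthForms.coe_plusForm m K]
  refine Cfsg.Agent.ClassicalGeometry.OmegaIndex.index_Omega h2 ?_ _
    (LieClassical.OmegaReindex.nondegenerate_of_left _
      (fun x hx => LieClassical.OrthForms.nondeg_plusForm m K x hx))
  simp only [Fintype.card_sum, Fintype.card_fin]; omega

include p in
theorem idx_plus {m : ℕ} (hm : 4 ≤ m) :
    (Omega K (quadFormPlus m K)).index ∣ 4 ∧ (¬ Odd (Nat.card K) → (Omega K (quadFormPlus m K)).index ∣ 2) := by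
  by_cases ho : Odd (Nat.card K)
  · exact ⟨by rw [plus_idx_four K (p := p) ho hm], fun h => absurd ho h⟩
  · have h1 := plus_idx_mul K hm
    have hq : 2 ≤ Nat.card K := Finite.one_lt_card
    have h3 : Odd (Nat.card K ^ m - 1) := by
      have h4 := Nat.not_odd_iff_even.1 (even_pow ho (n := m) (by omega))
      have h5 : 1 ≤ Nat.card K ^ m := Nat.one_le_pow _ _ (by omega)
      exact Nat.Even.sub_odd h5 h4 odd_one
    rw [gcd_four_of_odd h3, mul_one] at h1
    have h2 : (Omega K (quadFormPlus m K)).index ∣ 2 := Dvd.intro _ h1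
    exact ⟨h2.trans (by norm_num), fun _ => h2⟩

include p in
theorem idx_minus {a b : K} (hab : ∀ z₁ z₂ : K, z₁ ^ 2 + a * z₁ * z₂ + b * z₂ ^ 2 = 0 → z₁ = 0 ∧ z₂ = 0) {l : ℕ}
    (hl : 3 ≤ l) :
    (Omega K (quadFormMinus l K a b)).index ∣ 4 ∧
      (¬ Odd (Nat.card K) → (Omega K (quadFormMinus l K a b)).index ∣ 2) := by
  by_cases ho : Odd (Nat.card K)
  · exact ⟨by rw [minus_idx_four K (p := p) ho a b hab], fun h => absurd ho h⟩
  · have h1 := minus_idx_mul K a b hab hl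
    have h3 : Odd (Nat.card K ^ (l + 1) + 1) :=
      (Nat.not_odd_iff_even.1 (even_pow ho (n := l + 1) (by omega))).add_one
    rw [gcd_four_of_odd h3, mul_one] at h1
    have h2 : (Omega K (quadFormMinus l K a b)).index ∣ 2 := Dvd.intro _ h1
    exact ⟨h2.trans (by norm_num), fun _ => h2⟩

omit [Finite K] in
theorem center_of_card {ι : Type} [Fintype ι] [DecidableEq ι] {Q : (ι → K) → K} {n : ℕ}
    (h1 : (Omega K Q).index * Nat.card (Subgroup.center (Omega K Q)) = 2 * n) (h2 : (Omega K Q).index = 4)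
    (hn : n = 2) : ∀ z : Omega K Q, z ∈ Subgroup.center (Omega K Q) → z = 1 := by
  rw [h2, hn] at h1
  have h3 : Nat.card (Subgroup.center (Omega K Q)) = 1 := by omega
  intro z hz
  rw [Subgroup.eq_bot_of_card_eq _ h3] at hz
  exact Subgroup.mem_bot.1 hz

omit [Finite K] in
theorem scal_one {ι : Type} [Fintype ι] [DecidableEq ι] {Q : (ι → K) → K} {z : Omega K Q} (hz : z = 1) :
    ∃ a : Kˣ, a ^ 1 = 1 ∧ ∀ v, (omMat z).mulVec v = (a : K) • v := by
  refine ⟨1, one_pow 1, fun v => ?_⟩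
  rw [hz]
  change (1 : Matrix _ _ K).mulVec v = _
  rw [Matrix.one_mulVec, Units.val_one, one_smul]

end idx

section chars

variable (K : Type u) [Field K] [Finite K] (p : ℕ) [Fact p.Prime] [CharP K p]

theorem odd_dn (h2 : (2 : K) ≠ 0) (ho : Odd (Nat.card K)) {m k : ℕ} (hm : 3 ≤ m) (hk : 2 ≤ k) (hkm : k ≤ m) :
    ∃ e, Dn (POmega K (quadFormOdd m K)) p (Nat.card K) (dg (CForm.oddF K m h2) k) e := by
  have hq3 : 3 ≤ Nat.card K := q_ge_three Finite.one_lt_card ho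
  obtain ⟨-, hcen⟩ := odd_idx K (p := p) ho hm
  obtain ⟨c, hc⟩ := exists_cus_one (K := K) rfl k (by omega) (by
    have : Nat.card K ^ 2 ≤ Nat.card K ^ k := Nat.pow_le_pow_right (by omega) hk
    nlinarith only [hq3, this]) (by rintro ⟨h3, -⟩; omega)
  obtain ⟨e, f, j, h⟩ := CForm.frm_odd (K := K) h2 (show k + (m - k) = m by omega)
  obtain ⟨h3, h4⟩ := idx_odd K (p := p) ho hm
  exact dn_of_cus (CForm.oddF K m h2) p (odd_hB K m h2) (frm_mem h) hc (fun z hz => scal_one K (hcen z hz)) h3 h4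

theorem gcd_odd_pow {n : ℕ} (hn : Odd n) : Nat.gcd 4 (3 ^ n - 1) = 2 := by
  obtain ⟨j, rfl⟩ := hn
  have h5 : (3 ^ (2 * j + 1)) % 4 = 3 := by
    rw [pow_succ, pow_mul, Nat.mul_mod, Nat.pow_mod]
    norm_num
  have h7 : 1 ≤ 3 ^ (2 * j + 1) := Nat.one_le_pow _ _ (by norm_num)
  generalize 3 ^ (2 * j + 1) = x at *
  have h6 : (x - 1) % 4 = 2 := by omega
  rw [Nat.gcd_rec, h6]
  decide

theorem gcd_even_pow {n : ℕ} (hn : Even n) : Nat.gcd 4 (3 ^ n + 1) = 2 := by
  obtain ⟨j, rfl⟩ := hn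
  have h5 : (3 ^ (j + j)) % 4 = 1 := by
    rw [← two_mul, pow_mul, Nat.pow_mod]
    norm_num
  have h6 : (3 ^ (j + j) + 1) % 4 = 2 := by omega
  rw [Nat.gcd_rec, h6]
  decide

theorem plus_dn {m k : ℕ} (hm : 4 ≤ m) (hk : 2 ≤ k) (hkm : k ≤ m)
    (hq : 3 ≤ k ∨ 4 ≤ Nat.card K ∨ (Nat.card K = 3 ∧ Odd m)) :
    ∃ e, Dn (POmega K (quadFormPlus m K)) p (Nat.card K) (dg (CForm.plusF K m) k) e := by
  obtain ⟨e, f, j, h⟩ := CForm.frm_plus (K := K) (show k + (m - k) = m by omega)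
  obtain ⟨h3, h4⟩ := idx_plus K (p := p) hm
  by_cases hA : 3 ≤ k ∨ 4 ≤ Nat.card K
  · obtain ⟨c, hc⟩ := exists_cus_sq K rfl k (by omega) (fun h => by omega) (fun h => by omega) (fun _ => hk)
    exact dn_of_cus (CForm.plusF K m) p (plus_hB K m) (frm_mem h) hc
      (fun z hz => scal_of (cen_plus K (by omega) z hz)) h3 h4
  · push Not at hA
    have hB : Nat.card K = 3 ∧ Odd m := by
      rcases hq with h | h | h
      · omega
      · omega
      · exact h
    have ho : Odd (Nat.card K) := by rw [hB.1]; decide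
    have h5 := plus_idx_mul K hm
    have hcen := center_of_card K h5 (plus_idx_four K (p := p) ho hm) (by rw [hB.1]; exact gcd_odd_pow hB.2)
    have hk2 : k = 2 := by omega
    subst hk2
    obtain ⟨c, hc⟩ := exists_cus_one (K := K) hB.1 2 (by norm_num) (by norm_num) (by rintro ⟨h, -⟩; omega)
    exact dn_of_cus (CForm.plusF K m) p (plus_hB K m) (frm_mem h) hc (fun z hz => scal_one K (hcen z hz)) h3 h4

theorem minus_dn {a b : K} (hab : ∀ z₁ z₂ : K, z₁ ^ 2 + a * z₁ * z₂ + b * z₂ ^ 2 = 0 → z₁ = 0 ∧ z₂ = 0)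
    {l k : ℕ} (hl : 3 ≤ l) (hk : 2 ≤ k) (hkl : k ≤ l)
    (hq : 3 ≤ k ∨ 4 ≤ Nat.card K ∨ (Nat.card K = 3 ∧ Odd l)) :
    ∃ e, Dn (POmega K (quadFormMinus l K a b)) p (Nat.card K) (dg (CForm.minusF K l a b hab) k) e := by
  obtain ⟨e, f, j, h⟩ := CForm.frm_minus (K := K) hab (show k + (l - k) = l by omega)
  obtain ⟨h3, h4⟩ := idx_minus K (p := p) hab hl
  by_cases hA : 3 ≤ k ∨ 4 ≤ Nat.card K
  · obtain ⟨c, hc⟩ := exists_cus_sq K rfl k (by omega) (fun h => by omega) (fun h => by omega) (fun _ => hk)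
    exact dn_of_cus (CForm.minusF K l a b hab) p (minus_hB K l a b hab) (frm_mem h) hc
      (fun z hz => scal_of (cen_minus K (by omega) a b hab z hz)) h3 h4
  · push Not at hA
    have hB : Nat.card K = 3 ∧ Odd l := by
      rcases hq with h | h | h
      · omega
      · omega
      · exact h
    have ho : Odd (Nat.card K) := by rw [hB.1]; decide
    have h5 := minus_idx_mul K a b hab hl
    have hcen := center_of_card K h5 (minus_idx_four K (p := p) ho a b hab l) (by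
      rw [hB.1]; exact gcd_even_pow hB.2.add_one)
    have hk2 : k = 2 := by omega
    subst hk2
    obtain ⟨c, hc⟩ := exists_cus_one (K := K) hB.1 2 (by norm_num) (by norm_num) (by rintro ⟨h, -⟩; omega)
    exact dn_of_cus (CForm.minusF K l a b hab) p (minus_hB K l a b hab) (frm_mem h) hc
      (fun z hz => scal_one K (hcen z hz)) h3 h4

end chars

/-! ### divisibility of the degrees -/

section div

variable (K : Type u) [Field K] [Finite K] (p : ℕ) [Fact p.Prime] [CharP K p]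

omit [Finite K] in
theorem dvd_dg_of_ord {V : Type v} [AddCommGroup V] [Module K V] (F : CForm K V) {r e k : ℕ} (he : 0 < e)
    (h : r ∣ Nat.card K ^ e - 1) (hk : e < k) : r ∣ dg F k := by
  unfold dg
  exact Dvd.dvd.mul_left (h.trans (Finset.dvd_prod_of_mem (fun i => Nat.card K ^ i - 1)
    (Finset.mem_Ico.2 ⟨he, hk⟩))) _

omit [Finite K] in
theorem eight_dvd_three {V : Type v} [AddCommGroup V] [Module K V] (F : CForm K V) {k : ℕ} (ho : Odd (Nat.card K))
    (hk : 3 ≤ k) : 8 ∣ dg F k := dvd_dg_of_ord K F (e := 2) (by norm_num) (Nat.eight_dvd_sq_sub_one_of_odd ho) (by omega)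

theorem sq_sub_dvd (q n : ℕ) : q ^ 2 - 1 ∣ q ^ (2 * n) - 1 := pow_sub_one_dvd q ⟨n, rfl⟩

theorem eight_dvd_even {q n : ℕ} (ho : Odd q) (hn : Even n) : 8 ∣ q ^ n - 1 := by
  obtain ⟨j, rfl⟩ := hn
  rw [← two_mul]
  exact (Nat.eight_dvd_sq_sub_one_of_odd ho).trans (sq_sub_dvd q j)

theorem add_dvd_odd (q : ℕ) {n : ℕ} (hn : Odd n) : q + 1 ∣ q ^ n + 1 := by
  have := hn.nat_add_dvd_pow_add_pow q 1
  rwa [one_pow] at this

theorem eight_dvd_mul {q a b : ℕ} (ho : Odd q) (hq : 2 ≤ q) (hab : Even (a + b)) :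
    8 ∣ (q ^ a - 1) * (q ^ b + 1) := by
  rcases Nat.even_or_odd a with h | h
  · exact Dvd.dvd.mul_right (eight_dvd_even ho h) _
  · have hb' : Odd b := by
      rcases Nat.even_or_odd b with h' | h'
      · exact absurd hab (Nat.not_even_iff_odd.2 (h.add_even h'))
      · exact h'
    have h1 : q ^ 2 - 1 = (q - 1) * (q + 1) := by
      obtain ⟨y, rfl⟩ : ∃ y, q = y + 1 := ⟨q - 1, by omega⟩
      have : (y + 1) ^ 2 = y * (y + 2) + 1 := by ring
      rw [this, Nat.add_sub_cancel, Nat.add_sub_cancel]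
    refine (Nat.eight_dvd_sq_sub_one_of_odd ho).trans ?_
    rw [h1]
    exact Nat.mul_dvd_mul (by simpa only [_root_.pow_one] using pow_sub_one_dvd q (one_dvd a)) (add_dvd_odd q hb')

theorem AP_two {q n m : ℕ} (h : n + 2 = m) :
    AP q (Finset.Ico n m) = (q ^ (2 * (n + 1)) - 1) * (q ^ (2 * (n + 2)) - 1) := by
  subst h
  rw [AP_succ (by omega), AP_succ (by omega), Finset.Ico_self]
  unfold AP
  rw [Finset.prod_empty, mul_one]

include p in
/-- `8 ∣ dg F 2`, odd dimension -/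
theorem eight_odd (h2 : (2 : K) ≠ 0) (ho : Odd (Nat.card K)) {m : ℕ} (hm : 3 ≤ m) :
    8 ∣ dg (CForm.oddF K m h2) 2 := by
  have hq : 2 ≤ Nat.card K := Finite.one_lt_card
  have h1 := D_odd K p h2 ho (show 0 < 2 by norm_num) (show 2 + (m - 2) = m by omega)
  rw [AP_two (by omega)] at h1
  obtain ⟨y, hy⟩ := sq_sub_dvd (Nat.card K) (m - 2 + 2)
  rw [hy] at h1
  have h3 : 0 < Nat.card K ^ 2 - 1 := by
    have := Nat.one_lt_pow two_ne_zero hq
    omega
  have h4 : pp p (dg (CForm.oddF K m h2) 2) = (Nat.card K ^ (2 * (m - 2 + 1)) - 1) * y := by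
    apply Nat.eq_of_mul_eq_mul_right h3
    rw [h1]
    ring
  refine Dvd.dvd.trans ?_ (pp_dvd (p := p) _)
  rw [h4]
  exact Dvd.dvd.mul_right (eight_dvd_even ho ⟨m - 2 + 1, by ring⟩) _

include p in
theorem eight_plus (ho : Odd (Nat.card K)) {m : ℕ} (hm : 4 ≤ m) :
    8 ∣ dg (CForm.plusF K m) 2 := by
  have hq : 2 ≤ Nat.card K := Finite.one_lt_card
  have h1 := D_plus K p (show 0 < 2 by norm_num) (show 0 < m - 2 by omega) (show 2 + (m - 2) = m by omega)
  rw [AP_two (by omega)] at h1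
  obtain ⟨y, hy⟩ := sq_sub_dvd (Nat.card K) (m - 2 - 1 + 2)
  have e1 : Nat.card K ^ (2 * (m - 2 - 1 + 1)) - 1 = (Nat.card K ^ (m - 2) + 1) * (Nat.card K ^ (m - 2) - 1) := by
    rw [show m - 2 - 1 + 1 = m - 2 by omega]
    exact sq_sub _ _
  rw [hy, e1] at h1
  have h3 : 0 < Nat.card K ^ 2 - 1 := by
    have := Nat.one_lt_pow two_ne_zero hq
    omega
  have h3' : 0 < Nat.card K ^ (m - 2) - 1 := by
    have := Nat.one_lt_pow (show m - 2 ≠ 0 by omega) hq
    omega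
  have h4 : pp p (dg (CForm.plusF K m) 2) = (Nat.card K ^ m - 1) * (Nat.card K ^ (m - 2) + 1) * y := by
    apply Nat.eq_of_mul_eq_mul_right h3
    apply Nat.eq_of_mul_eq_mul_right h3'
    rw [h1]
    ring
  refine Dvd.dvd.trans ?_ (pp_dvd (p := p) _)
  rw [h4]
  refine Dvd.dvd.mul_right (eight_dvd_mul ho hq ⟨m - 1, by omega⟩) _

include p in
theorem eight_minus {a b : K} (hab : ∀ z₁ z₂ : K, z₁ ^ 2 + a * z₁ * z₂ + b * z₂ ^ 2 = 0 → z₁ = 0 ∧ z₂ = 0)
    (ho : Odd (Nat.card K)) {l : ℕ} (hl : 3 ≤ l) : 8 ∣ dg (CForm.minusF K l a b hab) 2 := by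
  have hq : 2 ≤ Nat.card K := Finite.one_lt_card
  have h1 := D_minus K p hab (show 0 < 2 by norm_num) (show 2 + (l - 2) = l by omega)
  rw [AP_two (by omega)] at h1
  obtain ⟨y, hy⟩ := sq_sub_dvd (Nat.card K) (l - 2 + 2)
  have e1 : Nat.card K ^ (2 * (l - 2 + 1)) - 1 = (Nat.card K ^ (l - 2 + 1) + 1) * (Nat.card K ^ (l - 2 + 1) - 1) :=
    sq_sub _ _
  rw [hy, e1] at h1
  have h3 : 0 < Nat.card K ^ 2 - 1 := by
    have := Nat.one_lt_pow two_ne_zero hq
    omega
  have h3' : 0 < Nat.card K ^ (l - 2 + 1) + 1 := Nat.succ_pos _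
  have h4 : pp p (dg (CForm.minusF K l a b hab) 2) = (Nat.card K ^ (l - 2 + 1) - 1) * (Nat.card K ^ (l + 1) + 1) * y := by
    apply Nat.eq_of_mul_eq_mul_right h3
    apply Nat.eq_of_mul_eq_mul_right h3'
    rw [h1]
    ring
  refine Dvd.dvd.trans ?_ (pp_dvd (p := p) _)
  rw [h4]
  refine Dvd.dvd.mul_right (eight_dvd_mul ho hq ⟨l, by omega⟩) _

end div

end Cfsg.Agent.H674.Dl
end

-- part: H674/Dl/OrthNum
section
/-!
# Bounds and numerics for the orthogonal rows of S4769 (helper674)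
-/

set_option autoImplicit false

open Cfsg

namespace Cfsg.Agent.H674.Dl

open Module Cfsg.Agent.H53.HC Cfsg.Agent.H477.HC Cfsg.Agent.H749.Two Cfsg.Agent.H246.Dl

universe u v w

/-! ### the derived length -/

section bound

variable {ι : Type} [Fintype ι] [DecidableEq ι] {K : Type u} [Field K] [Finite K]

/-- reindexing -/
noncomputable def reGL {n : ℕ} (e : ι ≃ Fin n) : GL ι K ≃* GL (Fin n) K :=
  Units.mapEquiv (Matrix.reindexAlgEquiv K K e).toMulEquiv

theorem dlLe_pomega (Q : (ι → K) → K) {r : ℕ} (hr : r.Prime) (hrK : (r : K) ≠ 0) {e : ℕ} (he0 : 0 < e)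
    (he : ∀ k, 0 < k → r ∣ Nat.card K ^ k - 1 → e ≤ k) :
    DlLe r (Nat.log r (Fintype.card ι / e) + 1) (POmega K Q) := by
  have : Fact r.Prime := ⟨hr⟩
  have hf : Function.Surjective (QuotientGroup.mk' (Subgroup.center (Omega K Q))) := QuotientGroup.mk'_surjective _
  let ρ : Omega K Q →* GL (Fin (Fintype.card ι)) K :=
    (reGL (Fintype.equivFin ι)).toMonoidHom.comp ((isometryGroup K Q).subtype.comp (Omega K Q).subtype)
  have hρ : Function.Injective ρ := by
    intro a b h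
    have h1 := (reGL (K := K) (Fintype.equivFin ι)).injective h
    exact Subtype.ext (Subtype.ext h1)
  have : Fintype K := Fintype.ofFinite K
  exact H755.Dl.DlLe_ne_ord (n := Fintype.card ι) hrK he0 he hf hρ

/-- the order of `q` modulo `r` -/
theorem exists_ord {K : Type u} [Field K] [Finite K] {p : ℕ} [Fact p.Prime] [CharP K p] {r : ℕ} (hr : r.Prime)
    (hrp : r ≠ p) : ∃ e, 0 < e ∧ r ∣ Nat.card K ^ e - 1 ∧ ∀ k, 0 < k → r ∣ Nat.card K ^ k - 1 → e ≤ k := by
  classical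
  have hcop : Nat.Coprime (Nat.card K) r := ((Nat.Prime.coprime_iff_not_dvd hr).2 (ne_card K (p := p) hr hrp)).symm
  have hex : ∃ e, 0 < e ∧ r ∣ Nat.card K ^ e - 1 := by
    refine ⟨Nat.totient r, Nat.totient_pos.2 hr.pos, ?_⟩
    have h1 := Nat.ModEq.pow_totient hcop
    exact (Nat.modEq_iff_dvd' (Nat.one_le_pow _ _ Nat.card_pos)).1 h1.symm
  refine ⟨Nat.find hex, (Nat.find_spec hex).1, (Nat.find_spec hex).2, fun k hk h => Nat.find_min' hex ⟨hk, h⟩⟩

theorem cast_ne_zero {K : Type u} [Field K] {p : ℕ} [Fact p.Prime] [CharP K p] {r : ℕ} (hr : r.Prime)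
    (hrp : r ≠ p) : (r : K) ≠ 0 := by
  intro h
  rw [CharP.cast_eq_zero_iff K p] at h
  exact hrp ((Nat.prime_dvd_prime_iff_eq Fact.out hr).1 h).symm

end bound

/-! ### numerics -/

section num

theorem pow_three_gt (L : ℕ) (hL : 2 ≤ L) : 2 * L + 4 < 3 ^ L := by
  induction L, hL using Nat.le_induction with
  | base => norm_num
  | succ n hn ih => rw [pow_succ]; omega

/-- enough characters, `r ≥ 3` -/
theorem num_r {r L n e w : ℕ} (hr : 3 ≤ r) (hL : 2 ≤ L) (he : 0 < e) (h : r ^ L ≤ n / e) (hn : n ≤ 2 * w + 2) :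
    L + 1 ≤ w + 1 - (e + 1) := by
  have h1 : 3 ^ L ≤ n / e := (Nat.pow_le_pow_left hr L).trans h
  have h2 : e * 3 ^ L ≤ n := by
    rw [mul_comm]
    exact (Nat.le_div_iff_mul_le he).1 h1
  have h3 := pow_three_gt L hL
  obtain ⟨x, hx⟩ : ∃ x, 3 ^ L = x + 2 * L + 5 := ⟨3 ^ L - (2 * L + 5), by omega⟩
  obtain ⟨y, rfl⟩ : ∃ y, e = y + 1 := ⟨e - 1, by omega⟩
  rw [hx] at h2
  have h4 : (y + 1) * (x + 2 * L + 5) = y * x + 2 * (y * L) + 5 * y + (x + 2 * L + 5) := by ring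
  rw [h4] at h2
  have h5 : 0 ≤ y * x := Nat.zero_le _
  have h6 : y * 2 ≤ y * L := Nat.mul_le_mul_left _ hL
  (clear * - hn h2; omega)

theorem pow_two_gt (m : ℕ) (hm : 5 ≤ m) : 2 * m + 2 < 2 ^ (m - 1) := by
  induction m, hm using Nat.le_induction with
  | base => norm_num
  | succ n hn ih =>
    rw [show n + 1 - 1 = n - 1 + 1 by omega, pow_succ]; omega

theorem pow_two_gt' (m : ℕ) (hm : 6 ≤ m) : 2 * m + 2 < 2 ^ (m - 2) := by
  induction m, hm using Nat.le_induction with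
  | base => norm_num
  | succ n hn ih =>
    rw [show n + 1 - 2 = n - 2 + 1 by omega, pow_succ]; omega

theorem num_two {L n m : ℕ} (hm : 5 ≤ m) (h : 2 ^ L ≤ n) (hn : n ≤ 2 * m + 2) : L + 1 ≤ m + 1 - 2 := by
  have h1 := pow_two_gt m hm
  have h2 : 2 ^ L < 2 ^ (m - 1) := by omega
  have h3 := (Nat.pow_lt_pow_iff_right (by norm_num : 1 < 2)).1 h2
  omega

theorem num_two' {L n m : ℕ} (hm : 6 ≤ m) (h : 2 ^ L ≤ n) (hn : n ≤ 2 * m + 2) : L + 1 ≤ m + 1 - 3 := by
  have h1 := pow_two_gt' m hm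
  have h2 : 2 ^ L < 2 ^ (m - 2) := by omega
  have h3 := (Nat.pow_lt_pow_iff_right (by norm_num : 1 < 2)).1 h2
  omega

theorem pow_log_le {r n : ℕ} (hn : n ≠ 0) : r ^ Nat.log r n ≤ n := Nat.pow_log_le_self r hn

end num

/-! ### the sizes of the degrees `dg F k`, `k ≥ 2` -/

section mono

variable (K : Type u) [Field K] [Finite K] (p : ℕ) [Fact p.Prime] [CharP K p]

theorem mono_odd (h2 : (2 : K) ≠ 0) (ho : Odd (Nat.card K)) {m k : ℕ} (hk : 2 ≤ k) (hkm : k ≤ m) :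
    pp p (dg (CForm.oddF K m h2) 2) ≤ pp p (dg (CForm.oddF K m h2) k) := by
  have hq : 2 ≤ Nat.card K := Finite.one_lt_card
  have hq3 := q_ge_three hq ho
  have hsq : 1 * (Nat.card K + 1) < Nat.card K ^ 2 - 1 := by
    obtain ⟨y, hy⟩ : ∃ y, Nat.card K = y + 3 := ⟨Nat.card K - 3, by omega⟩
    rw [hy]
    have : (y + 3) ^ 2 = y * y + 6 * y + 9 := by ring
    have h0 : 0 ≤ y * y := Nat.zero_le _
    omega
  have hstep : ∀ i, 1 < i → i ≤ m → 1 * pp p (dg (CForm.oddF K m h2) (i - 1)) < pp p (dg (CForm.oddF K m h2) i) := by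
    intro i hi hi'
    refine grow hq hi (rec_odd K p h2 ho hi (show i + (m - i) = m by omega))
      (pp_pos_dg_odd K p h2 ho (by omega) (by omega)) (lt_of_lt_of_le hsq ?_)
    exact Nat.sub_le_sub_right (Nat.pow_le_pow_right (by omega) (by omega)) 1
  rcases Nat.lt_or_ge 2 k with h | h
  · have := chain (D := fun i => pp p (dg (CForm.oddF K m h2) i)) (c := 1) le_rfl hstep k 2 (by norm_num) h hkm
    omega
  · have : k = 2 := by omega
    rw [this]

theorem mono_plus (ho : Odd (Nat.card K)) {m k : ℕ} (hm : 4 ≤ m) (hk : 2 ≤ k) (hkm : k ≤ m) :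
    pp p (dg (CForm.plusF K m) 2) ≤ pp p (dg (CForm.plusF K m) k) := by
  have hq : 2 ≤ Nat.card K := Finite.one_lt_card
  have hq3 := q_ge_three hq ho
  have hstep : ∀ i, 1 < i → i ≤ m → 1 * pp p (dg (CForm.plusF K m) (i - 1)) < pp p (dg (CForm.plusF K m) i) := by
    intro i hi hi'
    rcases Nat.lt_or_ge i m with h | h
    · refine grow hq hi (rec_plus K p hi (show 0 < m - i by omega) (show i + (m - i) = m by omega))
        (pp_pos_dg_plus K p (by omega) (by omega)) ?_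
      have h1 : Nat.card K ^ 1 + 1 ≤ Nat.card K ^ (m - i) + 1 :=
        Nat.add_le_add_right (Nat.pow_le_pow_right (by omega) (by omega)) 1
      have h2 : Nat.card K ^ 2 - 1 ≤ Nat.card K ^ (m - i + 1) - 1 :=
        Nat.sub_le_sub_right (Nat.pow_le_pow_right (by omega) (by omega)) 1
      refine lt_of_lt_of_le ?_ (Nat.mul_le_mul h1 h2)
      rw [pow_one, mul_comm 1]
      refine Nat.mul_lt_mul_of_pos_left ?_ (by omega)
      have h3 : 3 ^ 2 ≤ Nat.card K ^ 2 := Nat.pow_le_pow_left hq3 2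
      omega
    · have h3 : i = m := by omega
      rw [h3]
      have hrt := rec_plus_top K p (m := m) (by omega)
      rw [pp_two_odd K p ho] at hrt
      exact grow' hq (by omega) hrt (pp_pos_dg_plus K p (by omega) (by omega)) (by omega) (by norm_num)
  rcases Nat.lt_or_ge 2 k with h | h
  · have := chain (D := fun i => pp p (dg (CForm.plusF K m) i)) (c := 1) le_rfl hstep k 2 (by norm_num) h hkm
    omega
  · have : k = 2 := by omega
    rw [this]

theorem mono_minus {a b : K} (hab : ∀ z₁ z₂ : K, z₁ ^ 2 + a * z₁ * z₂ + b * z₂ ^ 2 = 0 → z₁ = 0 ∧ z₂ = 0)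
    {l k : ℕ} (hk : 2 ≤ k) (hkl : k ≤ l) :
    pp p (dg (CForm.minusF K l a b hab) 2) ≤ pp p (dg (CForm.minusF K l a b hab) k) := by
  rcases Nat.lt_or_ge 2 k with h | h
  · have h1 := chain (D := fun i => pp p (dg (CForm.minusF K l a b hab) i)) (cc_pos (Nat.card K)) (grow_minus K p hab)
      k 2 (by norm_num) h hkl
    have h2 := cc_pos (Nat.card K)
    have h3 : pp p (dg (CForm.minusF K l a b hab) 2) ≤ cc (Nat.card K) * pp p (dg (CForm.minusF K l a b hab) 2) :=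
      Nat.le_mul_of_pos_left _ h2
    omega
  · have : k = 2 := by omega
    rw [this]

/-- the value of `D_2` -/
theorem D2_odd_three (h2 : (2 : K) ≠ 0) (ho : Odd (Nat.card K)) :
    pp p (dg (CForm.oddF K 3 h2) 2) = (Nat.card K ^ 2 + 1) * ((Nat.card K ^ 3 + 1) * (Nat.card K ^ 3 - 1)) := by
  have hq : 2 ≤ Nat.card K := Finite.one_lt_card
  have h1 := D_odd K p h2 ho (show 0 < 2 by norm_num) (show 2 + 1 = 3 by norm_num)
  rw [AP_two (by norm_num)] at h1
  have e1 : Nat.card K ^ (2 * (1 + 1)) - 1 = (Nat.card K ^ 2 + 1) * (Nat.card K ^ 2 - 1) := sq_sub _ 2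
  have e2 : Nat.card K ^ (2 * (1 + 2)) - 1 = (Nat.card K ^ 3 + 1) * (Nat.card K ^ 3 - 1) := sq_sub _ 3
  rw [e1, e2] at h1
  have h3 : 0 < Nat.card K ^ 2 - 1 := by
    have := Nat.one_lt_pow two_ne_zero hq
    omega
  apply Nat.eq_of_mul_eq_mul_right h3
  rw [h1]
  ring

theorem D2_odd_four (h2 : (2 : K) ≠ 0) (ho : Odd (Nat.card K)) :
    pp p (dg (CForm.oddF K 4 h2) 2) =
      (Nat.card K ^ 3 + 1) * (Nat.card K ^ 3 - 1) * ((Nat.card K ^ 4 + 1) * (Nat.card K ^ 2 + 1)) := by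
  have hq : 2 ≤ Nat.card K := Finite.one_lt_card
  have h1 := D_odd K p h2 ho (show 0 < 2 by norm_num) (show 2 + 2 = 4 by norm_num)
  rw [AP_two (by norm_num)] at h1
  have e1 : Nat.card K ^ (2 * (2 + 1)) - 1 = (Nat.card K ^ 3 + 1) * (Nat.card K ^ 3 - 1) := sq_sub _ 3
  have e2 : Nat.card K ^ (2 * (2 + 2)) - 1 = (Nat.card K ^ 4 + 1) * (Nat.card K ^ 4 - 1) := sq_sub _ 4
  have e3 : Nat.card K ^ 4 - 1 = (Nat.card K ^ 2 + 1) * (Nat.card K ^ 2 - 1) := sq_sub _ 2
  rw [e1, e2, e3] at h1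
  have h3 : 0 < Nat.card K ^ 2 - 1 := by
    have := Nat.one_lt_pow two_ne_zero hq
    omega
  apply Nat.eq_of_mul_eq_mul_right h3
  rw [h1]
  ring

theorem D2_plus_four :
    pp p (dg (CForm.plusF K 4) 2) = (Nat.card K ^ 2 + 1) ^ 2 * (Nat.card K ^ 6 - 1) := by
  have hq : 2 ≤ Nat.card K := Finite.one_lt_card
  have h1 := D_plus K p (show 0 < 2 by norm_num) (show 0 < 2 by norm_num) (show 2 + 2 = 4 by norm_num)
  rw [AP_two (by norm_num)] at h1
  have e1 : Nat.card K ^ (2 * (2 - 1 + 1)) - 1 = (Nat.card K ^ 2 + 1) * (Nat.card K ^ 2 - 1) := sq_sub _ 2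
  have e2 : Nat.card K ^ (2 * (2 - 1 + 2)) - 1 = Nat.card K ^ 6 - 1 := rfl
  rw [e1, e2] at h1
  have h3 : 0 < Nat.card K ^ 2 - 1 := by
    have := Nat.one_lt_pow two_ne_zero hq
    omega
  apply Nat.eq_of_mul_eq_mul_right h3
  apply Nat.eq_of_mul_eq_mul_right h3
  rw [h1]
  ring

theorem D2_minus_three {a b : K} (hab : ∀ z₁ z₂ : K, z₁ ^ 2 + a * z₁ * z₂ + b * z₂ ^ 2 = 0 → z₁ = 0 ∧ z₂ = 0) :
    pp p (dg (CForm.minusF K 3 a b hab) 2) = (Nat.card K ^ 4 + 1) * (Nat.card K ^ 6 - 1) := by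
  have hq : 2 ≤ Nat.card K := Finite.one_lt_card
  have h1 := D_minus K p hab (show 0 < 2 by norm_num) (show 2 + 1 = 3 by norm_num)
  rw [AP_two (by norm_num)] at h1
  have e1 : Nat.card K ^ (2 * (1 + 1)) - 1 = (Nat.card K ^ 2 + 1) * (Nat.card K ^ 2 - 1) := sq_sub _ 2
  have e2 : Nat.card K ^ (2 * (1 + 2)) - 1 = Nat.card K ^ 6 - 1 := rfl
  rw [e1, e2] at h1
  have h3 : 0 < Nat.card K ^ 2 - 1 := by
    have := Nat.one_lt_pow two_ne_zero hq
    omega
  apply Nat.eq_of_mul_eq_mul_right h3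
  apply Nat.eq_of_mul_eq_mul_right (show 0 < Nat.card K ^ (1 + 1) + 1 from Nat.succ_pos _)
  rw [h1]
  ring

theorem D2_minus_four {a b : K} (hab : ∀ z₁ z₂ : K, z₁ ^ 2 + a * z₁ * z₂ + b * z₂ ^ 2 = 0 → z₁ = 0 ∧ z₂ = 0) :
    pp p (dg (CForm.minusF K 4 a b hab) 2) =
      (Nat.card K ^ 5 + 1) * (Nat.card K ^ 3 - 1) * ((Nat.card K ^ 4 + 1) * (Nat.card K ^ 2 + 1)) := by
  have hq : 2 ≤ Nat.card K := Finite.one_lt_card
  have h1 := D_minus K p hab (show 0 < 2 by norm_num) (show 2 + 2 = 4 by norm_num)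
  rw [AP_two (by norm_num)] at h1
  have e1 : Nat.card K ^ (2 * (2 + 1)) - 1 = (Nat.card K ^ 3 + 1) * (Nat.card K ^ 3 - 1) := sq_sub _ 3
  have e2 : Nat.card K ^ (2 * (2 + 2)) - 1 = (Nat.card K ^ 4 + 1) * (Nat.card K ^ 4 - 1) := sq_sub _ 4
  have e3 : Nat.card K ^ 4 - 1 = (Nat.card K ^ 2 + 1) * (Nat.card K ^ 2 - 1) := sq_sub _ 2
  rw [e1, e2, e3] at h1
  have h3 : 0 < Nat.card K ^ 2 - 1 := by
    have := Nat.one_lt_pow two_ne_zero hq
    omega
  apply Nat.eq_of_mul_eq_mul_right h3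
  apply Nat.eq_of_mul_eq_mul_right (show 0 < Nat.card K ^ (2 + 1) + 1 from Nat.succ_pos _)
  rw [h1]
  ring

end mono

/-! ### the rank 3 characters -/

section rk

variable (K : Type u) [Field K] [Finite K] (p : ℕ) [Fact p.Prime] [CharP K p]

/-- removing a power of `q` -/
theorem pp_of_eq {x y : ℕ} {k : ℕ} (h : x = Nat.card K ^ k * y) (hy : ¬ p ∣ y) : pp p x = y := by
  rw [h, pp_q K p, pp_self hy]

omit [Fact p.Prime] in
theorem not_dvd_mul' (hp : p.Prime) {a b : ℕ} (ha : ¬ p ∣ a) (hb : ¬ p ∣ b) : ¬ p ∣ a * b := by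
  rw [hp.dvd_mul]; tauto

theorem not_dvd_add (k : ℕ) (hk : 0 < k) : ¬ p ∣ Nat.card K ^ k + 1 := by
  obtain ⟨s, hs, hs0⟩ := card_pow' K p
  exact not_dvd_pow_add Fact.out hs hs0 hk

include p in
theorem rk_odd_three (h2 : (2 : K) ≠ 0) (ho : Odd (Nat.card K)) :
    ∃ t, Ch (POmega K (quadFormOdd 3 K)) t ∧ 2 ∣ t ∧ t ≠ 0 ∧ 4 * pp p t < pp p (dg (CForm.oddF K 3 h2) 2) := by
  have hq : 2 ≤ Nat.card K := Finite.one_lt_card
  have hq3 := q_ge_three hq ho
  obtain ⟨s, t, -, ht, -, h⟩ := rk3_odd K h2 ho (m := 3) le_rfl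
  have h1 : 2 * t = Nat.card K ^ 1 * ((Nat.card K ^ 1 + 1) * (Nat.card K ^ 3 + 1)) := by
    have h3 : ((Nat.card K : ℤ) - 1) ≠ 0 := by
      have : (2 : ℤ) ≤ Nat.card K := by exact_mod_cast hq
      omega
    have h4 : ((2 * t : ℕ) : ℤ) = ((Nat.card K ^ 1 * ((Nat.card K ^ 1 + 1) * (Nat.card K ^ 3 + 1)) : ℕ) : ℤ) := by
      apply mul_left_cancel₀ h3
      push_cast
      norm_num only [] at h
      linear_combination h
    exact_mod_cast h4
  have hpp : 2 * pp p t = (Nat.card K ^ 1 + 1) * (Nat.card K ^ 3 + 1) := by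
    have h3 := pp_of_eq K p h1 (not_dvd_mul' p Fact.out (not_dvd_add K p 1 (by norm_num)) (not_dvd_add K p 3 (by norm_num)))
    rwa [pp_mul, pp_two_odd K p ho] at h3
  have he : Even (Nat.card K ^ 1 + 1) := (ho.pow).add_one
  have he' : Even (Nat.card K ^ 3 + 1) := (ho.pow).add_one
  refine ⟨t, ht, ?_, ?_, ?_⟩
  · obtain ⟨x, hx⟩ := he.two_dvd
    obtain ⟨y, hy⟩ := he'.two_dvd
    refine ⟨Nat.card K ^ 1 * (x * y), ?_⟩
    rw [hx, hy] at h1
    have : 2 * t = 2 * (2 * (Nat.card K ^ 1 * (x * y))) := by rw [h1]; ring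
    omega
  · rintro rfl
    have h5 : 0 < Nat.card K ^ 1 * ((Nat.card K ^ 1 + 1) * (Nat.card K ^ 3 + 1)) := by positivity
    omega
  · rw [D2_odd_three K p h2 ho]
    have h6 : 4 * pp p t = 2 * ((Nat.card K ^ 1 + 1) * (Nat.card K ^ 3 + 1)) := by rw [← hpp]; ring
    rw [h6, pow_one]
    have h7 : 3 ^ 3 ≤ Nat.card K ^ 3 := Nat.pow_le_pow_left hq3 3
    have h8 : Nat.card K ≤ Nat.card K ^ 2 := Nat.le_self_pow two_ne_zero _
    obtain ⟨B, hB⟩ : ∃ B, Nat.card K ^ 3 = B + 1 := ⟨Nat.card K ^ 3 - 1, by omega⟩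
    rw [hB, Nat.add_sub_cancel]
    have h9 : 2 * (Nat.card K + 1) < (Nat.card K ^ 2 + 1) * B := by nlinarith only [h7, hB]
    calc 2 * ((Nat.card K + 1) * (B + 1 + 1)) = (2 * (Nat.card K + 1)) * (B + 1 + 1) := by ring
      _ < ((Nat.card K ^ 2 + 1) * B) * (B + 1 + 1) := Nat.mul_lt_mul_of_pos_right h9 (by omega)
      _ = _ := by ring

include p in
theorem rk_odd_four (h2 : (2 : K) ≠ 0) (ho : Odd (Nat.card K)) :
    ∃ t, Ch (POmega K (quadFormOdd 4 K)) t ∧ 2 ∣ t ∧ t ≠ 0 ∧ 4 * pp p t < pp p (dg (CForm.oddF K 4 h2) 2) := by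
  have hq : 2 ≤ Nat.card K := Finite.one_lt_card
  have hq3 := q_ge_three hq ho
  obtain ⟨t, s, ht, -, h, -⟩ := rk3_odd K h2 ho (m := 4) (by norm_num)
  have h1 : 2 * t = Nat.card K ^ 1 * ((Nat.card K ^ 3 + 1) * ((Nat.card K ^ 1 + 1) * (Nat.card K ^ 2 + 1))) := by
    have h3 : ((Nat.card K : ℤ) - 1) ≠ 0 := by
      have : (2 : ℤ) ≤ Nat.card K := by exact_mod_cast hq
      omega
    have h4 : ((2 * t : ℕ) : ℤ) =
        ((Nat.card K ^ 1 * ((Nat.card K ^ 3 + 1) * ((Nat.card K ^ 1 + 1) * (Nat.card K ^ 2 + 1))) : ℕ) : ℤ) := by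
      apply mul_left_cancel₀ h3
      push_cast
      norm_num only [] at h
      linear_combination h
    exact_mod_cast h4
  have hpp : 2 * pp p t = (Nat.card K ^ 3 + 1) * ((Nat.card K ^ 1 + 1) * (Nat.card K ^ 2 + 1)) := by
    have h3 := pp_of_eq K p h1 (not_dvd_mul' p Fact.out (not_dvd_add K p 3 (by norm_num))
      (not_dvd_mul' p Fact.out (not_dvd_add K p 1 (by norm_num)) (not_dvd_add K p 2 (by norm_num))))
    rwa [pp_mul, pp_two_odd K p ho] at h3
  have he : Even (Nat.card K ^ 1 + 1) := (ho.pow).add_one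
  have he' : Even (Nat.card K ^ 3 + 1) := (ho.pow).add_one
  refine ⟨t, ht, ?_, ?_, ?_⟩
  · obtain ⟨x, hx⟩ := he.two_dvd
    obtain ⟨y, hy⟩ := he'.two_dvd
    refine ⟨Nat.card K ^ 1 * (x * y * (Nat.card K ^ 2 + 1)), ?_⟩
    rw [hx, hy] at h1
    have : 2 * t = 2 * (2 * (Nat.card K ^ 1 * (x * y * (Nat.card K ^ 2 + 1)))) := by rw [h1]; ring
    omega
  · rintro rfl
    have h5 : 0 < Nat.card K ^ 1 * ((Nat.card K ^ 3 + 1) * ((Nat.card K ^ 1 + 1) * (Nat.card K ^ 2 + 1))) := by positivity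
    omega
  · rw [D2_odd_four K p h2 ho]
    have h6 : 4 * pp p t = 2 * ((Nat.card K ^ 3 + 1) * ((Nat.card K ^ 1 + 1) * (Nat.card K ^ 2 + 1))) := by rw [← hpp]; ring
    rw [h6, pow_one]
    have h7 : 3 ^ 3 ≤ Nat.card K ^ 3 := Nat.pow_le_pow_left hq3 3
    have h8 : Nat.card K ≤ Nat.card K ^ 4 := Nat.le_self_pow (by norm_num) _
    obtain ⟨B, hB⟩ : ∃ B, Nat.card K ^ 3 = B + 1 := ⟨Nat.card K ^ 3 - 1, by omega⟩
    rw [hB, Nat.add_sub_cancel]
    have h9 : 2 * (Nat.card K + 1) < B * (Nat.card K ^ 4 + 1) := by nlinarith only [h7, h8, hB]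
    calc 2 * ((B + 1 + 1) * ((Nat.card K + 1) * (Nat.card K ^ 2 + 1)))
        = (2 * (Nat.card K + 1)) * ((B + 1 + 1) * (Nat.card K ^ 2 + 1)) := by ring
      _ < (B * (Nat.card K ^ 4 + 1)) * ((B + 1 + 1) * (Nat.card K ^ 2 + 1)) :=
        Nat.mul_lt_mul_of_pos_right h9 (by (clear * - hq; positivity))
      _ = _ := by ring

include p in
theorem rk_plus_four (ho : Odd (Nat.card K)) :
    ∃ t, Ch (POmega K (quadFormPlus 4 K)) t ∧ 2 ∣ t ∧ t ≠ 0 ∧ 4 * pp p t < pp p (dg (CForm.plusF K 4) 2) := by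
  have hq : 2 ≤ Nat.card K := Finite.one_lt_card
  have hq3 := q_ge_three hq ho
  obtain ⟨t, s, ht, -, h, -⟩ := rk3_plus K (m := 4) le_rfl
  have h1 : t = Nat.card K ^ 1 * ((Nat.card K ^ 2 + 1) * (Nat.card K ^ 2 + 1)) := by
    have h3 : ((Nat.card K : ℤ) ^ 2 - 1) ≠ 0 := by
      have : (2 : ℤ) ≤ Nat.card K := by exact_mod_cast hq
      nlinarith only [hq3]
    have h4 : ((t : ℕ) : ℤ) = ((Nat.card K ^ 1 * ((Nat.card K ^ 2 + 1) * (Nat.card K ^ 2 + 1)) : ℕ) : ℤ) := by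
      apply mul_left_cancel₀ h3
      push_cast
      norm_num only [] at h
      linear_combination h
    exact_mod_cast h4
  have hpp : pp p t = (Nat.card K ^ 2 + 1) * (Nat.card K ^ 2 + 1) :=
    pp_of_eq K p h1 (not_dvd_mul' p Fact.out (not_dvd_add K p 2 (by norm_num)) (not_dvd_add K p 2 (by norm_num)))
  have he : Even (Nat.card K ^ 2 + 1) := (ho.pow).add_one
  refine ⟨t, ht, ?_, ?_, ?_⟩
  · rw [h1]
    exact Dvd.dvd.mul_left (Dvd.dvd.mul_left he.two_dvd _) _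
  · rw [h1]; positivity
  · rw [D2_plus_four K p, hpp]
    have h7 : 3 ^ 6 ≤ Nat.card K ^ 6 := Nat.pow_le_pow_left hq3 6
    obtain ⟨B, hB⟩ : ∃ B, Nat.card K ^ 6 = B + 1 := ⟨Nat.card K ^ 6 - 1, by omega⟩
    rw [hB, Nat.add_sub_cancel]
    calc 4 * ((Nat.card K ^ 2 + 1) * (Nat.card K ^ 2 + 1))
        < B * ((Nat.card K ^ 2 + 1) * (Nat.card K ^ 2 + 1)) := Nat.mul_lt_mul_of_pos_right (by omega) (by positivity)
      _ = _ := by ring

include p in
theorem rk_minus_three {a b : K} (hab : ∀ z₁ z₂ : K, z₁ ^ 2 + a * z₁ * z₂ + b * z₂ ^ 2 = 0 → z₁ = 0 ∧ z₂ = 0)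
    (ho : Odd (Nat.card K)) :
    ∃ t, Ch (POmega K (quadFormMinus 3 K a b)) t ∧ 2 ∣ t ∧ t ≠ 0 ∧
      4 * pp p t < pp p (dg (CForm.minusF K 3 a b hab) 2) := by
  have hq : 2 ≤ Nat.card K := Finite.one_lt_card
  have hq3 := q_ge_three hq ho
  obtain ⟨s, t, -, ht, -, h⟩ := rk3_minus K a b hab (l := 3) le_rfl
  have h1 : t = Nat.card K ^ 1 * (Nat.card K ^ 4 + 1) := by
    have h3 : ((Nat.card K : ℤ) ^ 2 - 1) ≠ 0 := by
      have : (2 : ℤ) ≤ Nat.card K := by exact_mod_cast hq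
      nlinarith only [hq3]
    have h4 : ((t : ℕ) : ℤ) = ((Nat.card K ^ 1 * (Nat.card K ^ 4 + 1) : ℕ) : ℤ) := by
      apply mul_left_cancel₀ h3
      push_cast
      norm_num only [] at h
      linear_combination h
    exact_mod_cast h4
  have hpp : pp p t = Nat.card K ^ 4 + 1 := pp_of_eq K p h1 (not_dvd_add K p 4 (by norm_num))
  have he : Even (Nat.card K ^ 4 + 1) := (ho.pow).add_one
  refine ⟨t, ht, ?_, ?_, ?_⟩
  · rw [h1]
    exact Dvd.dvd.mul_left he.two_dvd _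
  · rw [h1]; positivity
  · rw [D2_minus_three K p hab, hpp]
    have h7 : 3 ^ 6 ≤ Nat.card K ^ 6 := Nat.pow_le_pow_left hq3 6
    obtain ⟨B, hB⟩ : ∃ B, Nat.card K ^ 6 = B + 1 := ⟨Nat.card K ^ 6 - 1, by omega⟩
    rw [hB, Nat.add_sub_cancel]
    calc 4 * (Nat.card K ^ 4 + 1) < B * (Nat.card K ^ 4 + 1) := Nat.mul_lt_mul_of_pos_right (by omega) (by positivity)
      _ = _ := by ring

include p in
theorem rk_minus_four {a b : K} (hab : ∀ z₁ z₂ : K, z₁ ^ 2 + a * z₁ * z₂ + b * z₂ ^ 2 = 0 → z₁ = 0 ∧ z₂ = 0)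
    (ho : Odd (Nat.card K)) :
    ∃ t, Ch (POmega K (quadFormMinus 4 K a b)) t ∧ 2 ∣ t ∧ t ≠ 0 ∧
      4 * pp p t < pp p (dg (CForm.minusF K 4 a b hab) 2) := by
  have hq : 2 ≤ Nat.card K := Finite.one_lt_card
  have hq3 := q_ge_three hq ho
  obtain ⟨t, s, ht, -, h, -⟩ := rk3_minus K a b hab (l := 4) (by norm_num)
  have h1 : t = Nat.card K ^ 2 * ((Nat.card K ^ 2 + 1) * (Nat.card K ^ 4 + 1)) := by
    have h3 : ((Nat.card K : ℤ) ^ 2 - 1) ≠ 0 := by
      have : (2 : ℤ) ≤ Nat.card K := by exact_mod_cast hq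
      nlinarith only [hq3]
    have h4 : ((t : ℕ) : ℤ) = ((Nat.card K ^ 2 * ((Nat.card K ^ 2 + 1) * (Nat.card K ^ 4 + 1)) : ℕ) : ℤ) := by
      apply mul_left_cancel₀ h3
      push_cast
      norm_num only [] at h
      linear_combination h
    exact_mod_cast h4
  have hpp : pp p t = (Nat.card K ^ 2 + 1) * (Nat.card K ^ 4 + 1) :=
    pp_of_eq K p h1 (not_dvd_mul' p Fact.out (not_dvd_add K p 2 (by norm_num)) (not_dvd_add K p 4 (by norm_num)))
  have he : Even (Nat.card K ^ 2 + 1) := (ho.pow).add_one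
  refine ⟨t, ht, ?_, ?_, ?_⟩
  · rw [h1]
    exact Dvd.dvd.mul_left (Dvd.dvd.mul_right he.two_dvd _) _
  · rw [h1]; positivity
  · rw [D2_minus_four K p hab, hpp]
    have h7 : 3 ^ 3 ≤ Nat.card K ^ 3 := Nat.pow_le_pow_left hq3 3
    have h8 : 1 ≤ Nat.card K ^ 5 := Nat.one_le_pow _ _ (by omega)
    obtain ⟨B, hB⟩ : ∃ B, Nat.card K ^ 3 = B + 1 := ⟨Nat.card K ^ 3 - 1, by omega⟩
    rw [hB, Nat.add_sub_cancel]
    have h9 : 4 < (Nat.card K ^ 5 + 1) * B := by nlinarith only [h7, h8, hB]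
    calc 4 * ((Nat.card K ^ 2 + 1) * (Nat.card K ^ 4 + 1))
        < ((Nat.card K ^ 5 + 1) * B) * ((Nat.card K ^ 2 + 1) * (Nat.card K ^ 4 + 1)) :=
        Nat.mul_lt_mul_of_pos_right h9 (by positivity)
      _ = _ := by ring

end rk

end Cfsg.Agent.H674.Dl
end
end

-- part: H674/Dl/OrthMinus
section
prune_inst 0x2030040000000000000000000000004000000000008000210002000200000000400800080000000002000000000000000000000000000000000000000000000002100000400000000000000000000000000000000000000000000000000000000000000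
set_option linter.all false
open scoped Cfsg.Agent.FastGrp

-- part: H674/Dl/OrthRow
section
/-!
# The rows `PΩ` of S4769, `p` not the characteristic (helper674)

`row_odd`; `row_plus` (hypothesis: `DlLe 2 3` for `PΩ⁺_8(3)`); `row_minus` (hypotheses: one more degree for `PΩ⁻_8(q)` and
`PΩ⁻_10(3)`).
-/

set_option autoImplicit false

open Cfsg

namespace Cfsg.Agent.H674.Dl

open Module Cfsg.Agent.H53.HC Cfsg.Agent.H477.HC Cfsg.Agent.H749.Two Cfsg.Agent.H246.Dl

universe u v w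

theorem not_comm_of_ch {Y : Type*} [Group Y] {d : ℕ} (h : Ch Y d) (hd : d ≠ 1) : ¬ IsMulCommutative Y := by
  intro hc
  obtain ⟨χ, hχ, h1⟩ := h
  have h2 := Characters.CCBasic.irr_apply_one_of_comm (A := Y) (fun a b => hc.is_comm.comm a b) hχ
  rw [h2] at h1
  exact hd (by exact_mod_cast h1.symm)

/-- the final combination -/
theorem row_of {S : Type u} [Group S] [Finite S] [IsSimpleGroup S] {Y : Type v} [Group Y] (iso : S ≃* Y)
    (hc : ¬ IsMulCommutative Y) (T : H596.OneFacts.FactTwo.{u}) (I : H671.H5.FactIM.{u}) {r : ℕ} (hr : r.Prime)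
    (hd : r ∣ Nat.card S) {L : ℕ} (hL : DlLe r (L + 1) Y) (hm : 2 ≤ L → Many r Y (L + 1)) : Row r S := by
  have : Fact r.Prime := ⟨hr⟩
  rcases Nat.lt_or_ge L 2 with h | h
  · refine H759.Dl.row_of_dl_two T I (fun h1 => hc ?_) hr hd ((hL.of_equiv iso).mono (by omega))
    refine ⟨⟨fun a b => iso.symm.injective ?_⟩⟩
    rw [map_mul, map_mul]
    exact h1.is_comm.comm _ _
  · exact Row.of_equiv iso ⟨L + 1, hL, hm h⟩

section general

variable {K : Type} [Field K] (p : ℕ) {ι : Type} [Fintype ι] [DecidableEq ι]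
  (F : CForm K (ι → K))

theorem ge_four_of_dvd {r q : ℕ} (hr : 3 ≤ r) (hq : 2 ≤ q) (h : r ∣ q ^ 1 - 1) : 4 ≤ q := by
  rw [pow_one] at h
  have := Nat.le_of_dvd (by omega) h
  omega

/-- **`Many` for `r ≥ 3`** -/
theorem many_r [Finite K] {r e L w : ℕ} (hr : r.Prime) (hr3 : 3 ≤ r) (he : 0 < e) (hed : r ∣ Nat.card K ^ e - 1)
    (hL : 2 ≤ L) (hn : Fintype.card ι ≤ 2 * w + 2) (h : L = Nat.log r (Fintype.card ι / e))
    (hdn : ∀ k, 2 ≤ k → k ≤ w → (3 ≤ k ∨ 4 ≤ Nat.card K) → ∃ x, Dn (POmega K F.Q) p (Nat.card K) (dg F k) x)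
    (hsep : ∀ j k, 1 ≤ j → 1 ≤ k → j ≤ w → k ≤ w → j ≠ k → ∀ x x', Dn (POmega K F.Q) p (Nat.card K) (dg F j) x →
      Dn (POmega K F.Q) p (Nat.card K) (dg F k) x' → x ≠ x') : Many r (POmega K F.Q) (L + 1) := by
  have hq : 2 ≤ Nat.card K := Finite.one_lt_card
  have hx : Fintype.card ι / e ≠ 0 := by
    intro h0
    rw [h, h0, Nat.log_zero_right] at hL
    omega
  have h1 : r ^ L ≤ Fintype.card ι / e := by rw [h]; exact pow_log_le hx
  have h2 := num_r hr3 hL he h1 hn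
  have h3 : (Finset.Icc (e + 1) w).card = w + 1 - (e + 1) := Nat.card_Icc _ _
  refine (many_of_dn' (p := p) (q := Nat.card K) (d := fun k => dg F k) (Finset.Icc (e + 1) w) hr (fun k hk => ?_)
    (fun j hj k hk hjk => ?_) (fun k hk => ?_)).mono (by rw [h3]; exact h2)
  · rw [Finset.mem_Icc] at hk
    refine hdn k (by omega) hk.2 ?_
    rcases Nat.lt_or_ge 1 e with h4 | h4
    · exact Or.inl (by omega)
    · have h5 : e = 1 := by omega
      subst h5
      exact Or.inr (ge_four_of_dvd hr3 hq hed)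
  · rw [Finset.mem_Icc] at hj hk
    exact hsep j k (by omega) (by omega) hj.2 hk.2 hjk
  · rw [Finset.mem_Icc] at hk
    exact Or.inl ⟨by omega, dvd_dg_of_ord K F he hed (by omega)⟩

/-- **`Many` for `r = 2`**, large dimension -/
theorem many_two {a L w : ℕ} (ha : 1 ≤ a) (hL : L + 1 ≤ w + 1 - a)
    (hdn : ∀ k, a ≤ k → k ≤ w → ∃ x, Dn (POmega K F.Q) p (Nat.card K) (dg F k) x)
    (hsep : ∀ j k, 1 ≤ j → 1 ≤ k → j ≤ w → k ≤ w → j ≠ k → ∀ x x', Dn (POmega K F.Q) p (Nat.card K) (dg F j) x →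
      Dn (POmega K F.Q) p (Nat.card K) (dg F k) x' → x ≠ x')
    (h8 : ∀ k, a ≤ k → k ≤ w → 8 ∣ dg F k) : Many 2 (POmega K F.Q) (L + 1) := by
  have h3 : (Finset.Icc a w).card = w + 1 - a := Nat.card_Icc _ _
  refine (many_of_dn' (p := p) (q := Nat.card K) (d := fun k => dg F k) (Finset.Icc a w) Nat.prime_two (fun k hk => ?_)
    (fun j hj k hk hjk => ?_) (fun k hk => ?_)).mono (by rw [h3]; exact hL)
  · rw [Finset.mem_Icc] at hk
    exact hdn k hk.1 hk.2
  · rw [Finset.mem_Icc] at hj hk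
    exact hsep j k (by omega) (by omega) hj.2 hk.2 hjk
  · rw [Finset.mem_Icc] at hk
    exact Or.inr ⟨rfl, h8 k hk.1 hk.2⟩

/-- **`Many` for `r = 2`**, with the rank 3 character -/
theorem many_two_rk {a L w t : ℕ} (ha : 2 ≤ a) (hL : L + 1 ≤ w + 1 - a + 1)
    (hdn : ∀ k, a ≤ k → k ≤ w → ∃ x, Dn (POmega K F.Q) p (Nat.card K) (dg F k) x)
    (hsep : ∀ j k, 1 ≤ j → 1 ≤ k → j ≤ w → k ≤ w → j ≠ k → ∀ x x', Dn (POmega K F.Q) p (Nat.card K) (dg F j) x →
      Dn (POmega K F.Q) p (Nat.card K) (dg F k) x' → x ≠ x')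
    (h8 : ∀ k, a ≤ k → k ≤ w → 8 ∣ dg F k) (ht : Ch (POmega K F.Q) t) (ht2 : 2 ∣ t) (ht0 : t ≠ 0)
    (hlt : 4 * pp p t < pp p (dg F 2)) (hmono : ∀ k, 2 ≤ k → k ≤ w → pp p (dg F 2) ≤ pp p (dg F k))
    (hne : ∀ k, 1 ≤ k → k ≤ w → dg F k ≠ 0) : Many 2 (POmega K F.Q) (L + 1) := by
  have h3 : (Finset.Icc a w).card = w + 1 - a := Nat.card_Icc _ _
  have h4 : ({t} : Finset ℕ).card = 1 := Finset.card_singleton t
  refine (many_of_dn (p := p) (q := Nat.card K) (d := fun k => dg F k) (Finset.Icc a w) {t} Nat.prime_two (fun k hk => ?_)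
    (fun j hj k hk hjk => ?_) (fun k hk => ?_) (fun x hx => ?_) (fun x hx k hk e he => ?_)).mono (by rw [h3, h4]; exact hL)
  · rw [Finset.mem_Icc] at hk
    exact hdn k hk.1 hk.2
  · rw [Finset.mem_Icc] at hj hk
    exact hsep j k (by omega) (by omega) hj.2 hk.2 hjk
  · rw [Finset.mem_Icc] at hk
    exact Or.inr ⟨rfl, h8 k hk.1 hk.2⟩
  · rw [Finset.mem_singleton.1 hx]
    exact ⟨ht, ht2⟩
  · rw [Finset.mem_singleton.1 hx]
    rw [Finset.mem_Icc] at hk
    exact he.ne_of_small ht0 (hne k (by omega) hk.2) (hlt.trans_le (hmono k (by omega) hk.2))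

end general

/-! ### odd dimension -/

theorem sep_odd' {K : Type} [Field K] [Finite K] (p : ℕ) [Fact p.Prime] [CharP K p] (h2 : (2 : K) ≠ 0)
    (ho : Odd (Nat.card K)) {m : ℕ} (hm : 3 ≤ m) : ∀ j k, 1 ≤ j → 1 ≤ k → j ≤ m → k ≤ m → j ≠ k →
      ∀ x x', Dn (POmega K (quadFormOdd m K)) p (Nat.card K) (dg (CForm.oddF K m h2) j) x →
      Dn (POmega K (quadFormOdd m K)) p (Nat.card K) (dg (CForm.oddF K m h2) k) x' → x ≠ x' := by
  intro j k h1 h3 h4 h5 h6 x x' hx hx'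
  have e1 := hx.2.2.1
  have e2 := hx'.2.2.1
  rw [cc_odd ho] at e1 e2
  exact sep_odd K p h2 ho hm h1 h3 h4 h5 h6 hx.2.1 hx'.2.1 e1 e2

theorem row_odd (T : H596.OneFacts.FactTwo.{u}) (I : H671.H5.FactIM.{u}) {K : Type} [Field K] [Finite K] (p : ℕ)
    [Fact p.Prime] [CharP K p] (ho : Odd (Nat.card K)) {m : ℕ} (hm : 3 ≤ m) {S : Type u} [Group S] [Finite S]
    [IsSimpleGroup S] (iso : S ≃* POmega K (quadFormOdd m K)) {r : ℕ} (hr : r.Prime) (hd : r ∣ Nat.card S)
    (hrp : r ≠ p) : Row r S := by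
  have h2 := two_ne_zero_of_odd (K := K) (p := p) ho
  have hq : 2 ≤ Nat.card K := Finite.one_lt_card
  have hq3 := q_ge_three hq ho
  have hcard : Fintype.card (Unit ⊕ (Fin m ⊕ Fin m)) = 2 * m + 1 := by
    simp only [Fintype.card_sum, Fintype.card_fin, Fintype.card_unit]; omega
  obtain ⟨e, he0, hed, he⟩ := exists_ord (K := K) (p := p) hr hrp
  have hbound := dlLe_pomega (quadFormOdd m K) hr (cast_ne_zero (K := K) (p := p) hr hrp) he0 he
  have hc : ¬ IsMulCommutative (POmega K (quadFormOdd m K)) := by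
    obtain ⟨s, t, hs, -, h, -⟩ := rk3_odd K h2 ho hm
    refine not_comm_of_ch hs ?_
    rintro rfl
    have h3 : (Nat.card K : ℤ) ∣ 2 * ((Nat.card K : ℤ) - 1) * ((1 : ℕ) : ℤ) := by
      rw [h, mul_assoc]; exact Dvd.intro _ rfl
    have h4 : (Nat.card K : ℤ) ∣ 2 := by
      have h5 : (Nat.card K : ℤ) ∣ 2 * (Nat.card K : ℤ) := Dvd.intro_left _ rfl
      have h6 := dvd_sub h5 h3
      have e1 : 2 * (Nat.card K : ℤ) - 2 * ((Nat.card K : ℤ) - 1) * ((1 : ℕ) : ℤ) = 2 := by push_cast; ring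
      rwa [e1] at h6
    have h7 := Int.le_of_dvd (by norm_num) h4
    omega
  refine row_of iso hc T I hr hd hbound fun hL => ?_
  have hsep := sep_odd' p h2 ho hm
  have hdn : ∀ k, 2 ≤ k → k ≤ m → ∃ x, Dn (POmega K (quadFormOdd m K)) p (Nat.card K) (dg (CForm.oddF K m h2) k) x :=
    fun k h3 h4 => odd_dn K p h2 ho hm h3 h4
  rcases Nat.lt_or_ge 2 r with hr3 | hr3
  · exact many_r p (CForm.oddF K m h2) hr hr3 he0 hed hL (w := m) (by rw [hcard]; omega) rfl
      (fun k h3 h4 _ => hdn k h3 h4) hsep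
  · have hr2 : r = 2 := by have := hr.two_le; omega
    subst hr2
    have he1 : e = 1 := by
      have h3 := he 1 one_pos (by
        obtain ⟨j, hj⟩ := ho
        exact ⟨j, by rw [pow_one]; omega⟩)
      omega
    subst he1
    rw [Nat.div_one] at hL ⊢
    have hlog : 2 ^ Nat.log 2 (Fintype.card (Unit ⊕ (Fin m ⊕ Fin m))) ≤ 2 * m + 1 := by
      rw [← hcard]
      exact pow_log_le (by rw [hcard]; omega)
    have h8 : ∀ k, 2 ≤ k → k ≤ m → 8 ∣ dg (CForm.oddF K m h2) k := by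
      intro k h3 h4
      rcases Nat.lt_or_ge 2 k with h5 | h5
      · exact eight_dvd_three K _ ho h5
      · have : k = 2 := by omega
        rw [this]
        exact eight_odd K p h2 ho hm
    rcases Nat.lt_or_ge m 5 with hm5 | hm5
    · have h34 : m = 3 ∨ m = 4 := by omega
      rcases h34 with rfl | rfl
      · obtain ⟨t, ht, ht2, ht0, hlt⟩ := rk_odd_three K p h2 ho
        rw [hcard]
        exact many_two_rk p (CForm.oddF K 3 h2) (a := 2) (w := 3) le_rfl (by norm_num [Nat.log]) hdn hsep h8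
          ht ht2 ht0 hlt (fun k h3 h4 => mono_odd K p h2 ho h3 h4) (fun k h3 h4 => dg_odd_ne K h2 ho h3 h4)
      · obtain ⟨t, ht, ht2, ht0, hlt⟩ := rk_odd_four K p h2 ho
        rw [hcard]
        exact many_two_rk p (CForm.oddF K 4 h2) (a := 2) (w := 4) le_rfl (by norm_num [Nat.log]) hdn hsep h8
          ht ht2 ht0 hlt (fun k h3 h4 => mono_odd K p h2 ho h3 h4) (fun k h3 h4 => dg_odd_ne K h2 ho h3 h4)
    · exact many_two p (CForm.oddF K m h2) (a := 2) (w := m) (by norm_num) (num_two hm5 hlog (by omega)) hdn hsep h8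

/-! ### plus type -/

theorem sep_plus' {K : Type} [Field K] [Finite K] (p : ℕ) [Fact p.Prime] [CharP K p] {m : ℕ} (hm : 4 ≤ m) :
    ∀ j k, 1 ≤ j → 1 ≤ k → j ≤ m → k ≤ m → j ≠ k →
      ∀ x x', Dn (POmega K (quadFormPlus m K)) p (Nat.card K) (dg (CForm.plusF K m) j) x →
      Dn (POmega K (quadFormPlus m K)) p (Nat.card K) (dg (CForm.plusF K m) k) x' → x ≠ x' :=
  fun _ _ h1 h3 h4 h5 h6 _ _ hx hx' => sep_plus K p hm h1 h3 h4 h5 h6 hx.2.1 hx'.2.1 hx.2.2.1 hx'.2.2.1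

/-- the remaining row `PΩ⁺_8(3)`, `r = 2` -/
def PlusEightThree : Prop := ∀ (K : Type) [Field K] [Finite K], Nat.card K = 3 → DlLe 2 3 (POmega K (quadFormPlus 4 K))

seal _root_.Finset.sum in
theorem row_plus (H : PlusEightThree) (T : H596.OneFacts.FactTwo.{u}) (I : H671.H5.FactIM.{u}) {K : Type} [Field K]
    [Finite K] (p : ℕ) [Fact p.Prime] [CharP K p] {m : ℕ} (hm : 4 ≤ m) {S : Type u} [Group S] [Finite S]
    [IsSimpleGroup S] (iso : S ≃* POmega K (quadFormPlus m K)) {r : ℕ} (hr : r.Prime) (hd : r ∣ Nat.card S)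
    (hrp : r ≠ p) : Row r S := by
  have hq : 2 ≤ Nat.card K := Finite.one_lt_card
  have hcard : Fintype.card (Fin m ⊕ Fin m) = 2 * m := by
    simp only [Fintype.card_sum, Fintype.card_fin]; omega
  obtain ⟨e, he0, hed, he⟩ := exists_ord (K := K) (p := p) hr hrp
  have hbound := dlLe_pomega (quadFormPlus m K) hr (cast_ne_zero (K := K) (p := p) hr hrp) he0 he
  have hc : ¬ IsMulCommutative (POmega K (quadFormPlus m K)) := by
    obtain ⟨s, t, hs, -, h, -⟩ := rk3_plus K hm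
    refine not_comm_of_ch hs ?_
    rintro rfl
    have h3 : (Nat.card K : ℤ) ∣ ((Nat.card K : ℤ) ^ 2 - 1) * ((1 : ℕ) : ℤ) := by
      rw [h, mul_assoc]; exact Dvd.intro _ rfl
    have h4 : (Nat.card K : ℤ) ∣ 1 := by
      have h5 : (Nat.card K : ℤ) ∣ (Nat.card K : ℤ) ^ 2 := Dvd.intro _ (sq _).symm
      have h6 := dvd_sub h5 h3
      have e1 : (Nat.card K : ℤ) ^ 2 - ((Nat.card K : ℤ) ^ 2 - 1) * ((1 : ℕ) : ℤ) = 1 := by push_cast; ring
      rwa [e1] at h6
    have h7 := Int.le_of_dvd (by norm_num) h4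
    omega
  have hsep := sep_plus' (K := K) p hm
  by_cases hex : r = 2 ∧ m = 4 ∧ Nat.card K = 3
  · obtain ⟨rfl, rfl, h3⟩ := hex
    have ho : Odd (Nat.card K) := by rw [h3]; decide
    refine row_of iso hc T I hr hd (L := 2) (H K h3) fun _ => ?_
    obtain ⟨t, ht, ht2, ht0, hlt⟩ := rk_plus_four K p ho
    exact many_two_rk p (CForm.plusF K 4) (a := 3) (w := 4) (by norm_num) (by norm_num)
      (fun k h4 h5 => plus_dn K p le_rfl (by omega) h5 (Or.inl h4)) hsep (fun k h4 _ => eight_dvd_three K _ ho h4)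
      ht ht2 ht0 hlt (fun k h4 h5 => mono_plus K p ho le_rfl h4 h5) (fun k h4 h5 => dg_plus_ne K h4 h5)
  refine row_of iso hc T I hr hd hbound fun hL => ?_
  rcases Nat.lt_or_ge 2 r with hr3 | hr3
  · exact many_r p (CForm.plusF K m) hr hr3 he0 hed hL (w := m) (by rw [hcard]; omega) rfl
      (fun k h3 h4 h5 => plus_dn K p hm h3 h4 (h5.imp id Or.inl)) hsep
  · have hr2 : r = 2 := by have := hr.two_le; omega
    subst hr2
    have ho : Odd (Nat.card K) := two_cases K hrp rfl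
    have hq3 := q_ge_three hq ho
    have he1 : e = 1 := by
      have h3 := he 1 one_pos (by
        obtain ⟨j, hj⟩ := ho
        exact ⟨j, by rw [pow_one]; omega⟩)
      omega
    subst he1
    rw [Nat.div_one] at hL ⊢
    have hlog : 2 ^ Nat.log 2 (Fintype.card (Fin m ⊕ Fin m)) ≤ 2 * m := by
      rw [← hcard]
      exact pow_log_le (by rw [hcard]; omega)
    have h8 : ∀ k, 2 ≤ k → k ≤ m → 8 ∣ dg (CForm.plusF K m) k := by
      intro k h3 h4
      rcases Nat.lt_or_ge 2 k with h5 | h5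
      · exact eight_dvd_three K _ ho h5
      · have : k = 2 := by omega
        rw [this]
        exact eight_plus K p ho hm
    by_cases hA : 4 ≤ Nat.card K ∨ Odd m
    · have hdn : ∀ k, 2 ≤ k → k ≤ m → ∃ x, Dn (POmega K (quadFormPlus m K)) p (Nat.card K) (dg (CForm.plusF K m) k) x := by
        intro k h3 h4
        refine plus_dn K p hm h3 h4 (Or.inr ?_)
        rcases Nat.lt_or_ge (Nat.card K) 4 with h5 | h5
        · exact Or.inr ⟨by omega, hA.resolve_left (by omega)⟩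
        · exact Or.inl h5
      rcases Nat.lt_or_ge m 5 with hm5 | hm5
      · obtain rfl : m = 4 := by omega
        obtain ⟨t, ht, ht2, ht0, hlt⟩ := rk_plus_four K p ho
        rw [hcard]
        exact many_two_rk p (CForm.plusF K 4) (a := 2) (w := 4) le_rfl (by norm_num [Nat.log]) hdn hsep h8
          ht ht2 ht0 hlt (fun k h3 h4 => mono_plus K p ho le_rfl h3 h4) (fun k h3 h4 => dg_plus_ne K h3 h4)
      · exact many_two p (CForm.plusF K m) (a := 2) (w := m) (by norm_num) (num_two hm5 hlog (by omega)) hdn hsep h8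
    · push Not at hA
      have hq' : Nat.card K = 3 := by omega
      have hm6 : 6 ≤ m := by
        have h4 : m ≠ 4 := fun h => hex ⟨rfl, h, hq'⟩
        have h5 : m ≠ 5 := fun h => by
          rw [h] at hA
          exact absurd hA.2 (by decide)
        omega
      exact many_two p (CForm.plusF K m) (a := 3) (w := m) (by norm_num) (num_two' hm6 hlog (by omega))
        (fun k h3 h4 => plus_dn K p hm (by omega) h4 (Or.inl h3)) hsep (fun k h3 h4 => h8 k (by omega) h4)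

end Cfsg.Agent.H674.Dl
end

-- part: H674/Dl/OrthMinus
section
/-!
# The rows `PΩ⁻` of S4769, `p` not the characteristic (helper674)

For `PΩ⁻_8(q)` and `PΩ⁻_10(3)` one more character: Harish-Chandra induction of `c ⊗ ψ₀`, `c` cuspidal of `GL_(l-1)(q)`,
`ψ₀` the character of degree `q²` of `O⁻_4(q)` (2-transitive on the `q² + 1` singular points).
-/

set_option autoImplicit false

open Cfsg

namespace Cfsg.Agent.H674.Dl

open Module Cfsg.Agent.H53.HC Cfsg.Agent.H477.HC Cfsg.Agent.H749.Two Cfsg.Agent.H246.Dl MulAction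

universe u v w

section witt

variable {K : Type u} [Field K] {V : Type v} [AddCommGroup V] [Module K V] {X : Type w} [AddCommGroup X] [Module K X]
  {F : CForm K V} {F' : CForm K X} {j : X →ₗ[K] V}

theorem exists_sub [FiniteDimensional K V] {l : ℕ} {M : Submodule K V} (hl : l ≤ finrank K M) :
    ∃ M₁ : Submodule K V, M₁ ≤ M ∧ finrank K M₁ = l := by
  classical
  let b := finBasis K M
  let v : Fin l → V := fun i => (b (Fin.castLE hl i) : V)
  have hv : LinearIndependent K v := by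
    have h1 : LinearIndependent K (fun i : Fin l => b (Fin.castLE hl i)) :=
      b.linearIndependent.comp _ (Fin.castLE_injective hl)
    exact h1.map' M.subtype (LinearMap.ker_eq_bot.2 M.subtype_injective)
  refine ⟨Submodule.span K (Set.range v), ?_, ?_⟩
  · rw [Submodule.span_le]
    rintro _ ⟨i, rfl⟩
    exact (b (Fin.castLE hl i)).2
  · rw [finrank_span_eq_card hv, Fintype.card_fin]

/-- no totally singular subspace is larger than the anisotropic frame -/
theorem no_Om [FiniteDimensional K V] {l : ℕ} {e f : Fin l → V} (h : CForm.Frm F F' e f j) (hσ : F.σ = F'.σ)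
    (han : ∀ x, F'.Q x = 0 → x = 0) {M : Submodule K V} (hM : F.TS M) (hl : l < finrank K M) : False := by
  classical
  have hW := frm_mem h
  have hc := cmp_of_frm h hσ
  obtain ⟨M₁, hM₁, hM₁l⟩ := exists_sub hl.le
  have hM₁' : M₁ ∈ F.Om l := ⟨⟨fun w hw => hM.1 w (hM₁ hw), fun w hw w' hw' => hM.2 w (hM₁ hw) w' (hM₁ hw')⟩, hM₁l⟩
  obtain ⟨g, hg⟩ := F.trans_Om hM₁' hW
  have hgM : F.TS (M.map (F.iso.subtype g : V →ₗ[K] V)) := by
    refine ⟨?_, ?_⟩
    · rintro _ ⟨u, hu, rfl⟩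
      exact (F.iso_Q g u).trans (hM.1 u hu)
    · rintro _ ⟨u, hu, rfl⟩ _ ⟨v, hv, rfl⟩
      exact (F.iso_B g u v).trans (hM.2 u hu v hv)
  have hle : Submodule.span K (Set.range e) ≤ M.map (F.iso.subtype g : V →ₗ[K] V) := by
    rw [← hg]
    exact Submodule.map_mono hM₁
  have hlt : ∃ v ∈ M.map (F.iso.subtype g : V →ₗ[K] V), v ∉ Submodule.span K (Set.range e) := by
    by_contra hcon
    push Not at hcon
    have h1 : finrank K (M.map (F.iso.subtype g : V →ₗ[K] V)) ≤ l := by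
      rw [← hW.2]
      exact Submodule.finrank_mono hcon
    have h2 : finrank K (M.map (F.iso.subtype g : V →ₗ[K] V)) = finrank K M :=
      LinearEquiv.finrank_map_eq (F.iso.subtype g) M
    omega
  obtain ⟨v, hv, hv'⟩ := hlt
  have hvp : v ∈ F.perp (Submodule.span K (Set.range e)) := fun w hw => hgM.2 v hv w (hle hw)
  obtain ⟨w, hw, x, hx⟩ := hc.j2 v hvp
  have h3 : j x ∈ M.map (F.iso.subtype g : V →ₗ[K] V) := by
    have h4 : j x = v - w := by rw [hx]; abel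
    rw [h4]
    exact Submodule.sub_mem _ hv (hle hw)
  have h5 : F'.Q x = 0 := by
    rw [← h.hjQ]
    exact hgM.1 _ h3
  have h6 := han x h5
  apply hv'
  rw [hx, h6, map_zero, add_zero]
  exact hw

end witt

section psi

variable {K : Type} [Field K] [Finite K] {a b : K}
  (hab : ∀ z₁ z₂ : K, z₁ ^ 2 + a * z₁ * z₂ + b * z₂ ^ 2 = 0 → z₁ = 0 ∧ z₂ = 0)

include hab in
theorem anis (x : (Fin 0 ⊕ Fin 0) ⊕ Fin 2 → K) (h : (CForm.minusF K 0 a b hab).Q x = 0) : x = 0 := by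
  have h1 : quadFormMinus 0 K a b x = 0 := h
  unfold quadFormMinus at h1
  simp only [Finset.univ_eq_empty, Finset.sum_empty, zero_add] at h1
  obtain ⟨h2, h3⟩ := hab _ _ h1
  ext i
  rcases i with (i | i) | i
  · exact i.elim0
  · exact i.elim0
  · fin_cases i
    · exact h2
    · exact h3

/-- in `O⁻_4(q)` different points are not perpendicular -/
theorem not_perp {x y : (CForm.minusF K 1 a b hab).Pt} (hxy : x ≠ y) : ¬ (CForm.minusF K 1 a b hab).Perp x y := by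
  intro hp
  obtain ⟨e, f, j, h⟩ := CForm.frm_minus (K := K) hab (show 1 + 0 = 1 by norm_num)
  have hts : (CForm.minusF K 1 a b hab).TS (x.1 ⊔ y.1) := (CForm.minusF K 1 a b hab).TS_sup x.2.1 y.2.1 (fun u hu v hv =>
    hp u hu v hv)
  refine no_Om h rfl (anis hab) hts ?_
  have h1 : x.1 ⊓ y.1 = ⊥ := by
    by_contra hne
    have h2 : 0 < finrank K ↥(x.1 ⊓ y.1) := Nat.pos_of_ne_zero fun h0 => hne (Submodule.finrank_eq_zero.1 h0)
    have h3 : x.1 ⊓ y.1 = x.1 := Submodule.eq_of_le_of_finrank_le inf_le_left (by rw [x.2.2]; omega)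
    have h4 : x.1 ⊓ y.1 = y.1 := Submodule.eq_of_le_of_finrank_le inf_le_right (by rw [y.2.2]; omega)
    exact hxy (Subtype.ext (h3.symm.trans h4))
  have h2 := Submodule.finrank_sup_add_finrank_inf_eq x.1 y.1
  rw [h1, finrank_bot, x.2.2, y.2.2] at h2
  omega

/-- **the character of degree `q²` of `O⁻_4(q)`** -/
theorem exists_psi : ∃ ψ : (CForm.minusF K 1 a b hab).iso → ℂ, IsIrrCharacter _ ψ ∧
    ψ 1 = ((Nat.card K ^ 2 : ℕ) : ℂ) ∧
    ∀ (z : (CForm.minusF K 1 a b hab).iso) (c : Kˣ), (∀ v, (z : ((Fin 1 ⊕ Fin 1) ⊕ Fin 2 → K) ≃ₗ[K] ((Fin 1 ⊕ Fin 1) ⊕ Fin 2 → K)) v = (c : K) • v) → ψ z = ψ 1 := by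
  classical
  have hfin := Fintype.ofFinite K
  have hq : 2 ≤ Nat.card K := Finite.one_lt_card
  have hFi := finite_iso (CForm.minusF K 1 a b hab)
  have hFP : Finite (CForm.minusF K 1 a b hab).Pt := finite_Om (CForm.minusF K 1 a b hab) 1
  have hcard : Nat.card (CForm.minusF K 1 a b hab).Pt = Nat.card K ^ 2 + 1 := by
    have h1 := CForm.card_sing (F := CForm.minusF K 1 a b hab)
    have h2 := S0290.result (F := K) (q := Nat.card K) Nat.card_eq_fintype_card.symm 2 (by norm_num) a b hab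
    rw [card_Sing_quad, show Nat.card {v // (CForm.minusF K 1 a b hab).Q v = 0} = _ from h2] at h1
    obtain ⟨y, hy⟩ : ∃ y, Nat.card K = y + 1 := ⟨Nat.card K - 1, by omega⟩
    have hy0 : 0 < y := by omega
    rw [hy] at h1 ⊢
    rw [Nat.add_sub_cancel] at h1
    have e1 : (y + 1) ^ (2 * 2 - 1) + (y + 1) ^ (2 - 1) - (y + 1) ^ 2 = y * ((y + 1) ^ 2 + 1) + 1 := by
      have : (y + 1) ^ (2 * 2 - 1) + (y + 1) ^ (2 - 1) = y * ((y + 1) ^ 2 + 1) + 1 + (y + 1) ^ 2 := by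
        norm_num
        ring
      omega
    rw [e1] at h1
    exact Nat.eq_of_mul_eq_mul_left hy0 (by omega)
  have h2t : IsMultiplyPretransitive (CForm.minusF K 1 a b hab).iso (CForm.minusF K 1 a b hab).Pt 2 := by
    rw [is_two_pretransitive_iff]
    intro x y x' y' hxy hxy'
    exact CForm.trans_opp (F := CForm.minusF K 1 a b hab) (not_perp hab hxy) (not_perp hab hxy')
  have hpre : IsPretransitive (CForm.minusF K 1 a b hab).iso (CForm.minusF K 1 a b hab).Pt := by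
    refine ⟨fun x y => ?_⟩
    obtain ⟨g, hg⟩ := (CForm.minusF K 1 a b hab).trans_Om x.2 y.2
    exact ⟨g, Subtype.ext hg⟩
  have hirr := (S0157.result (G := (CForm.minusF K 1 a b hab).iso) (CForm.minusF K 1 a b hab).Pt (by
    rw [hcard]; nlinarith only [hq])).2 h2t
  have hval : ∀ z : (CForm.minusF K 1 a b hab).iso, (∀ x : (CForm.minusF K 1 a b hab).Pt, z • x = x) →
      (Nat.card (fixedBy (CForm.minusF K 1 a b hab).Pt z) : ℂ) - 1 = ((Nat.card K ^ 2 : ℕ) : ℂ) := by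
    intro z hz
    have h3 : fixedBy (CForm.minusF K 1 a b hab).Pt z = Set.univ := Set.eq_univ_of_forall hz
    rw [h3, Nat.card_univ, hcard]
    push_cast
    ring
  refine ⟨_, hirr, hval 1 fun x => one_smul _ x, fun z c hz => ?_⟩
  rw [hval 1 fun x => one_smul _ x]
  refine hval z fun x => ?_
  apply Subtype.ext
  rw [CForm.smul_val]
  exact map_eq_of_le (CForm.minusF K 1 a b hab).iso.subtype fun w hw => by
    change (z : ((Fin 1 ⊕ Fin 1) ⊕ Fin 2 → K) ≃ₗ[K] ((Fin 1 ⊕ Fin 1) ⊕ Fin 2 → K)) w ∈ x.1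
    rw [hz]; exact x.1.smul_mem _ hw

/-- **one more character** -/
theorem t1_dn (p : ℕ) [Fact p.Prime] [CharP K p] (ho : Odd (Nat.card K)) {l : ℕ} (hl : 3 ≤ l) :
    ∃ x, Dn (POmega K (quadFormMinus l K a b)) p (Nat.card K)
      (dg (CForm.minusF K l a b hab) (l - 1) * Nat.card K ^ 2) x := by
  classical
  have hq : 2 ≤ Nat.card K := Finite.one_lt_card
  have hq3 := q_ge_three hq ho
  obtain ⟨e, f, j, h⟩ := CForm.frm_minus (K := K) hab (show l - 1 + 1 = l by omega)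
  obtain ⟨e0, f0, j0, h0⟩ := CForm.frm_minus (K := K) hab (Nat.add_zero l)
  obtain ⟨ψ, hψ, hψ1, hψz⟩ := exists_psi hab
  obtain ⟨hi, hi'⟩ := idx_minus K (p := p) hab hl
  have hW : ∀ W' ∈ (CForm.minusF K l a b hab).Om (l - 1),
      Submodule.span K (Set.range e) ≤ (CForm.minusF K l a b hab).perp W' →
      Submodule.span K (Set.range e) ⊓ W' = ⊥ → False := by
    intro W' hW' h1 h2
    have hts := (CForm.minusF K l a b hab).TS_sup (frm_mem h).1 hW'.1 h1
    refine no_Om h0 rfl (anis hab) hts ?_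
    have h3 := Submodule.finrank_sup_add_finrank_inf_eq (Submodule.span K (Set.range e)) W'
    rw [h2, finrank_bot, (frm_mem h).2, hW'.2] at h3
    omega
  have key : ∀ {Z : Kˣ → Prop} {c : GL (Fin (l - 1)) K → ℂ} (hc : Cus K (l - 1) (RingHom.id K) Z c)
      (hcen : ∀ z : Omega K (quadFormMinus l K a b), z ∈ Subgroup.center (Omega K (quadFormMinus l K a b)) →
        ∃ a : Kˣ, Z a ∧ ∀ v, (omMat z).mulVec v = (a : K) • v), ∃ x, Dn (POmega K (quadFormMinus l K a b)) p (Nat.card K)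
      (dg (CForm.minusF K l a b hab) (l - 1) * Nat.card K ^ 2) x := by
    intro Z c hc hcen
    obtain ⟨χ, hχ, hχ1, hχz⟩ := exists_hc (cmp_of_frm h rfl) (F := CForm.minusF K l a b hab) hc (frm_mem h) hψ hW
    refine (dn_of_iso (CForm.minusF K l a b hab) p (minus_hB K l a b hab) hχ (d := dg (CForm.minusF K l a b hab) (l - 1) *
      Nat.card K ^ 2) (by rw [hχ1, hψ1]; push_cast; ring) (fun z hz z' hz' => ?_) hi hi' :)
    obtain ⟨s, hs, hs'⟩ := hcen z hz
    refine hχz z' s (fun v => (hz' v).trans (hs' v)) fun z'' hz'' => ?_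
    rw [hc.scal s hs, hψz z'' s hz'']
  rcases Nat.lt_or_ge l 4 with h4 | h4
  · obtain rfl : l = 3 := by omega
    have h5 := minus_idx_mul K a b hab (l := 3) le_rfl
    have hg : Nat.gcd 4 (Nat.card K ^ (3 + 1) + 1) = 2 := by
      obtain ⟨y, hy⟩ := eight_dvd_even ho (n := 4) ⟨2, rfl⟩
      have h6 : 1 ≤ Nat.card K ^ 4 := Nat.one_le_pow _ _ (by omega)
      have h7 : (Nat.card K ^ (3 + 1) + 1) % 4 = 2 := by
        have : Nat.card K ^ (3 + 1) + 1 = 8 * y + 2 := by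
          norm_num
          omega
        omega
      rw [Nat.gcd_rec, h7]
      decide
    have hcen := center_of_card K h5 (minus_idx_four K (p := p) ho a b hab 3) hg
    obtain ⟨c, hc⟩ := exists_cus_one (K := K) rfl 2 (by norm_num) (by nlinarith only [hq3]) (by rintro ⟨h, -⟩; omega)
    exact key hc fun z hz => scal_one K (hcen z hz)
  · obtain ⟨c, hc⟩ := exists_cus_sq K rfl (l - 1) (by omega) (fun _ => by omega) (fun _ => by omega) (fun _ => by omega)
    exact key hc fun z hz => scal_of (cen_minus K (by omega) a b hab z hz)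

end psi

/-! ### the row -/

section row

theorem sep_minus' {K : Type} [Field K] [Finite K] (p : ℕ) [Fact p.Prime] [CharP K p] {a b : K}
    (hab : ∀ z₁ z₂ : K, z₁ ^ 2 + a * z₁ * z₂ + b * z₂ ^ 2 = 0 → z₁ = 0 ∧ z₂ = 0) {l : ℕ} :
    ∀ j k, 1 ≤ j → 1 ≤ k → j ≤ l → k ≤ l → j ≠ k →
      ∀ x x', Dn (POmega K (quadFormMinus l K a b)) p (Nat.card K) (dg (CForm.minusF K l a b hab) j) x →
      Dn (POmega K (quadFormMinus l K a b)) p (Nat.card K) (dg (CForm.minusF K l a b hab) k) x' → x ≠ x' :=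
  fun _ _ h1 h3 h4 h5 h6 _ _ hx hx' => sep_minus K p hab h1 h3 h4 h5 h6 hx.2.1 hx'.2.1 hx.2.2.1 hx'.2.2.1

/-- the additional degree is different -/
theorem sep_t1 {K : Type} [Field K] [Finite K] (p : ℕ) [Fact p.Prime] [CharP K p] (ho : Odd (Nat.card K)) {a b : K}
    (hab : ∀ z₁ z₂ : K, z₁ ^ 2 + a * z₁ * z₂ + b * z₂ ^ 2 = 0 → z₁ = 0 ∧ z₂ = 0) {l i k : ℕ} (hi : 1 ≤ i) (hil : i ≤ l)
    (hk : 1 ≤ k) (hkl : k ≤ l) {x x' : ℕ}
    (hx : Dn (POmega K (quadFormMinus l K a b)) p (Nat.card K) (dg (CForm.minusF K l a b hab) i * Nat.card K ^ 2) x)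
    (hx' : Dn (POmega K (quadFormMinus l K a b)) p (Nat.card K) (dg (CForm.minusF K l a b hab) k) x') : x ≠ x' := by
  have hq : 2 ≤ Nat.card K := Finite.one_lt_card
  have hq3 := q_ge_three hq ho
  have hppi : pp p (dg (CForm.minusF K l a b hab) i * Nat.card K ^ 2) = pp p (dg (CForm.minusF K l a b hab) i) := by
    rw [mul_comm, pp_q K p]
  have hne := dg_minus_ne K hab hi hil
  have hne' := dg_minus_ne K hab hk hkl
  have hne2 : dg (CForm.minusF K l a b hab) i * Nat.card K ^ 2 ≠ 0 := Nat.mul_ne_zero hne (by positivity)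
  have hx0 : 0 < x := Nat.pos_of_ne_zero (by
    rintro rfl; exact hne2 (Nat.eq_zero_of_zero_dvd hx.2.1))
  have hx0' : 0 < x' := Nat.pos_of_ne_zero (by
    rintro rfl; exact hne' (Nat.eq_zero_of_zero_dvd hx'.2.1))
  have hch := chain (D := fun i => pp p (dg (CForm.minusF K l a b hab) i)) (cc_pos (Nat.card K)) (grow_minus K p hab)
  rw [cc_odd ho] at hch
  have h4 : ∀ {d e : ℕ}, Dn (POmega K (quadFormMinus l K a b)) p (Nat.card K) d e → pp p (d / e) ≤ 4 := fun h =>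
    (pp_le _).trans (Nat.le_of_dvd (by norm_num) h.2.2.2)
  rcases Nat.lt_trichotomy i k with h | h | h
  · refine sep_of_lt hx.2.1 hx'.2.1 hx0' hne2 (h4 hx') ?_
    rw [hppi]
    exact hch k i hi h hkl
  · subst h
    rintro rfl
    obtain ⟨-, ⟨t, ht⟩, -, h5⟩ := hx
    obtain ⟨-, ⟨t', ht'⟩, -, h6⟩ := hx'
    rw [ht', Nat.mul_div_cancel_left _ hx0] at h6
    rw [ht, Nat.mul_div_cancel_left _ hx0] at h5
    rw [ht', mul_assoc] at ht
    have h7 := Nat.eq_of_mul_eq_mul_left hx0 ht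
    have h8 : t ≤ 4 := Nat.le_of_dvd (by norm_num) h5
    have h9 : 1 ≤ t' := Nat.pos_of_dvd_of_pos h6 (by norm_num)
    have h10 : 3 ^ 2 ≤ Nat.card K ^ 2 := Nat.pow_le_pow_left hq3 2
    nlinarith only [h7, h8, h9, h10]
  · refine (sep_of_lt hx'.2.1 hx.2.1 hx0 hne' (h4 hx) ?_).symm
    rw [hppi]
    exact hch i k hk h hil

/-- **`Many` for `r = 2`**, with the rank 3 character and the additional one -/
theorem many_two_t1 {K : Type} [Field K] [Finite K] (p : ℕ) [Fact p.Prime] [CharP K p] (ho : Odd (Nat.card K)) {a b : K}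
    (hab : ∀ z₁ z₂ : K, z₁ ^ 2 + a * z₁ * z₂ + b * z₂ ^ 2 = 0 → z₁ = 0 ∧ z₂ = 0) {c l t L : ℕ} (hl : 3 ≤ l) (hc : 2 ≤ c)
    (hL : L + 1 ≤ l + 1 - c + 2)
    (hdn : ∀ k, c ≤ k → k ≤ l → ∃ x, Dn (POmega K (quadFormMinus l K a b)) p (Nat.card K)
      (dg (CForm.minusF K l a b hab) k) x)
    (h8 : ∀ k, 2 ≤ k → k ≤ l → 8 ∣ dg (CForm.minusF K l a b hab) k)
    (ht : Ch (POmega K (quadFormMinus l K a b)) t) (ht2 : 2 ∣ t) (ht0 : t ≠ 0)
    (hlt : 4 * pp p t < pp p (dg (CForm.minusF K l a b hab) 2)) : Many 2 (POmega K (quadFormMinus l K a b)) (L + 1) := by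
  let d : ℕ → ℕ := fun k => if k = 1 then dg (CForm.minusF K l a b hab) (l - 1) * Nat.card K ^ 2 else
    dg (CForm.minusF K l a b hab) k
  have hd1 : d 1 = dg (CForm.minusF K l a b hab) (l - 1) * Nat.card K ^ 2 := if_pos rfl
  have hdk : ∀ k, k ≠ 1 → d k = dg (CForm.minusF K l a b hab) k := fun k hk => if_neg hk
  have h1n : 1 ∉ Finset.Icc c l := by
    rw [Finset.mem_Icc]; omega
  have h3 : (insert 1 (Finset.Icc c l)).card = l + 1 - c + 1 := by
    rw [Finset.card_insert_of_notMem h1n, Nat.card_Icc]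
  have h4 : ({t} : Finset ℕ).card = 1 := Finset.card_singleton t
  have hmem : ∀ k, k ∈ insert 1 (Finset.Icc c l) → k = 1 ∨ (k ≠ 1 ∧ c ≤ k ∧ k ≤ l) := by
    intro k hk
    rcases Finset.mem_insert.1 hk with h | h
    · exact Or.inl h
    · rw [Finset.mem_Icc] at h
      exact Or.inr ⟨by omega, h⟩
  have hppi : pp p (dg (CForm.minusF K l a b hab) (l - 1) * Nat.card K ^ 2) =
      pp p (dg (CForm.minusF K l a b hab) (l - 1)) := by
    rw [mul_comm, pp_q K p]
  refine (many_of_dn (p := p) (q := Nat.card K) (d := d) (insert 1 (Finset.Icc c l)) {t} Nat.prime_two (fun k hk => ?_)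
    (fun j hj k hk hjk => ?_) (fun k hk => ?_) (fun x hx => ?_) (fun x hx k hk e he => ?_)).mono (by rw [h3, h4]; omega)
  · rcases hmem k hk with rfl | ⟨h, h', h''⟩
    · rw [hd1]; exact t1_dn hab p ho hl
    · rw [hdk k h]; exact hdn k h' h''
  · rcases hmem j hj with rfl | ⟨h, h', h''⟩ <;> rcases hmem k hk with rfl | ⟨g, g', g''⟩
    · exact absurd rfl hjk
    · rw [hd1, hdk k g]
      exact fun e e' he he' => sep_t1 p ho hab (by omega) (by omega) (by omega) g'' he he'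
    · rw [hd1, hdk j h]
      exact fun e e' he he' => (sep_t1 p ho hab (by omega) (by omega) (by omega) h'' he' he).symm
    · rw [hdk j h, hdk k g]
      exact sep_minus' p hab j k (by omega) (by omega) h'' g'' hjk
  · refine Or.inr ⟨rfl, ?_⟩
    rcases hmem k hk with rfl | ⟨h, h', h''⟩
    · rw [hd1]; exact Dvd.dvd.mul_right (h8 _ (by omega) (by omega)) _
    · rw [hdk k h]; exact h8 k (by omega) h''
  · rw [Finset.mem_singleton.1 hx]
    exact ⟨ht, ht2⟩
  · rw [Finset.mem_singleton.1 hx]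
    rcases hmem k hk with rfl | ⟨h, h', h''⟩
    · rw [hd1] at he
      refine he.ne_of_small ht0 (Nat.mul_ne_zero (dg_minus_ne K hab (by omega) (by omega)) ?_) ?_
      · have : 2 ≤ Nat.card K := Finite.one_lt_card
        positivity
      · rw [hppi]
        exact hlt.trans_le (mono_minus K p hab (by omega) (by omega))
    · rw [hdk k h] at he
      exact he.ne_of_small ht0 (dg_minus_ne K hab (by omega) h'') (hlt.trans_le (mono_minus K p hab (by omega) h''))

theorem row_minus (T : H596.OneFacts.FactTwo.{u}) (I : H671.H5.FactIM.{u}) {K : Type} [Field K]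
    [Finite K] (p : ℕ) [Fact p.Prime] [CharP K p] {a b : K}
    (hab : ∀ z₁ z₂ : K, z₁ ^ 2 + a * z₁ * z₂ + b * z₂ ^ 2 = 0 → z₁ = 0 ∧ z₂ = 0) {l : ℕ} (hl : 3 ≤ l)
    {S : Type u} [Group S] [Finite S]
    [IsSimpleGroup S] (iso : S ≃* POmega K (quadFormMinus l K a b)) {r : ℕ} (hr : r.Prime) (hd : r ∣ Nat.card S)
    (hrp : r ≠ p) : Row r S := by
  have hq : 2 ≤ Nat.card K := Finite.one_lt_card
  have hcard : Fintype.card ((Fin l ⊕ Fin l) ⊕ Fin 2) = 2 * l + 2 := by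
    simp only [Fintype.card_sum, Fintype.card_fin]; omega
  obtain ⟨e, he0, hed, he⟩ := exists_ord (K := K) (p := p) hr hrp
  have hbound := dlLe_pomega (quadFormMinus l K a b) hr (cast_ne_zero (K := K) (p := p) hr hrp) he0 he
  have hc : ¬ IsMulCommutative (POmega K (quadFormMinus l K a b)) := by
    obtain ⟨s, t, hs, -, h, -⟩ := rk3_minus K a b hab hl
    refine not_comm_of_ch hs ?_
    rintro rfl
    have h3 : (Nat.card K : ℤ) ∣ ((Nat.card K : ℤ) ^ 2 - 1) * ((1 : ℕ) : ℤ) := by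
      rw [h, sq, mul_assoc]; exact Dvd.intro _ rfl
    have h4 : (Nat.card K : ℤ) ∣ 1 := by
      have h5 : (Nat.card K : ℤ) ∣ (Nat.card K : ℤ) ^ 2 := Dvd.intro _ (sq _).symm
      have h6 := dvd_sub h5 h3
      have e1 : (Nat.card K : ℤ) ^ 2 - ((Nat.card K : ℤ) ^ 2 - 1) * ((1 : ℕ) : ℤ) = 1 := by push_cast; ring
      rwa [e1] at h6
    have h7 := Int.le_of_dvd (by norm_num) h4
    omega
  have hsep := sep_minus' p hab (l := l)
  refine row_of iso hc T I hr hd hbound fun hL => ?_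
  rcases Nat.lt_or_ge 2 r with hr3 | hr3
  · exact many_r p (CForm.minusF K l a b hab) hr hr3 he0 hed hL (w := l) (by rw [hcard]) rfl
      (fun k h3 h4 h5 => minus_dn K p hab hl h3 h4 (h5.imp id Or.inl)) hsep
  · have hr2 : r = 2 := by have := hr.two_le; omega
    subst hr2
    have ho : Odd (Nat.card K) := two_cases K hrp rfl
    have hq3 := q_ge_three hq ho
    have he1 : e = 1 := by
      have h3 := he 1 one_pos (by
        obtain ⟨j, hj⟩ := ho
        exact ⟨j, by rw [pow_one]; omega⟩)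
      omega
    subst he1
    rw [Nat.div_one] at hL ⊢
    have hlog : 2 ^ Nat.log 2 (Fintype.card ((Fin l ⊕ Fin l) ⊕ Fin 2)) ≤ 2 * l + 2 := by
      rw [← hcard]
      exact pow_log_le (by rw [hcard]; omega)
    have h8 : ∀ k, 2 ≤ k → k ≤ l → 8 ∣ dg (CForm.minusF K l a b hab) k := by
      intro k h3 h4
      rcases Nat.lt_or_ge 2 k with h5 | h5
      · exact eight_dvd_three K _ ho h5
      · have : k = 2 := by omega
        rw [this]
        exact eight_minus K p hab ho hl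
    by_cases hA : 4 ≤ Nat.card K ∨ Odd l
    · have hdn : ∀ k, 2 ≤ k → k ≤ l → ∃ x, Dn (POmega K (quadFormMinus l K a b)) p (Nat.card K)
          (dg (CForm.minusF K l a b hab) k) x := by
        intro k h3 h4
        refine minus_dn K p hab hl h3 h4 (Or.inr ?_)
        rcases Nat.lt_or_ge (Nat.card K) 4 with h5 | h5
        · exact Or.inr ⟨by omega, hA.resolve_left (by omega)⟩
        · exact Or.inl h5
      rcases Nat.lt_or_ge l 5 with hm5 | hm5
      · have h34 : l = 3 ∨ l = 4 := by omega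
        rcases h34 with rfl | rfl
        · obtain ⟨t, ht, ht2, ht0, hlt⟩ := rk_minus_three K p hab ho
          rw [hcard]
          exact many_two_t1 p ho hab (c := 2) le_rfl le_rfl (by norm_num [Nat.log]) hdn h8 ht ht2 ht0 hlt
        · obtain ⟨t, ht, ht2, ht0, hlt⟩ := rk_minus_four K p hab ho
          rw [hcard]
          exact many_two_t1 p ho hab (c := 2) (by norm_num) le_rfl (by norm_num [Nat.log]) hdn h8 ht ht2 ht0 hlt
      · exact many_two p (CForm.minusF K l a b hab) (a := 2) (w := l) (by norm_num) (num_two hm5 hlog le_rfl) hdn hsep h8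
    · push Not at hA
      have hdn : ∀ k, 3 ≤ k → k ≤ l → ∃ x, Dn (POmega K (quadFormMinus l K a b)) p (Nat.card K)
          (dg (CForm.minusF K l a b hab) k) x := fun k h3 h4 => minus_dn K p hab hl (by omega) h4 (Or.inl h3)
      rcases Nat.lt_or_ge l 5 with hm5 | hm5
      · have h3 : l ≠ 3 := fun h => by
          rw [h] at hA
          exact absurd hA.2 (by decide)
        obtain rfl : l = 4 := by omega
        obtain ⟨t, ht, ht2, ht0, hlt⟩ := rk_minus_four K p hab ho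
        rw [hcard]
        exact many_two_t1 p ho hab (c := 3) (by norm_num) (by norm_num) (by norm_num [Nat.log]) hdn h8 ht ht2 ht0 hlt
      · have h5 : l ≠ 5 := fun h => by
          rw [h] at hA
          exact absurd hA.2 (by decide)
        exact many_two p (CForm.minusF K l a b hab) (a := 3) (w := l) (by norm_num) (num_two' (by omega) hlog le_rfl)
          hdn hsep (fun k h3 h4 => h8 k (by omega) h4)

end row

end Cfsg.Agent.H674.Dl
end
end
end
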